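import Cfsg.Agent.H205.Der.L43

/-!
# `L3(3)` (helper205, S3502)

A subgroup of `L3(3)` missing `13` with elements of order `8`, transvections and regular unipotent elements has order
`432`.
-/

set_option autoImplicit false

namespace Cfsg.Agent.H205.DerPsl

open Subgroup Matrix Cfsg Cfsg.Agent.H39.DerPsl Cfsg.Agent.H439.Der Cfsg.Agent.OrdDiv Cfsg.Agent.H938.Sax
  Cfsg.Agent.ClassicalGeometry.AutPSL.Root Cfsg.Agent.ClassicalGeometry.AutPSL.Auto Cfsg.Agent.H199.PslAut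

abbrev S3 := Matrix.SpecialLinearGroup (Fin 3) (ZMod 3)

/-- an element of order eight -/
def gz : S3 := ⟨!![0, 1, 0; 1, 1, 0; 0, 0, 2], by decide⟩

theorem card_S3 : Nat.card S3 = 5616 := by
  have h2 := Cfsg.Agent.S0242.result (F := ZMod 3) (ZMod.card 3) 3 (by norm_num)
  have e1 : ∏ i : Fin 3, (3 ^ 3 - 3 ^ (i : ℕ)) = 11232 := by rfl
  rw [e1] at h2
  have h3 : (3 - 1) * Nat.card S3 = 11232 := h2
  omega

def inC (v : Fin 3 → ZMod 3) : Bool := decide (v 2 ≠ 0) && (decide (v 0 ≠ 0) || decide (v 1 ≠ 0))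

theorem dec_B : ∀ v w : Fin 3 → ZMod 3, v 2 = 0 → v ≠ 0 → w 2 = 0 → w ≠ 0 →
    ∃ k < 8, (gz.1 ^ k) *ᵥ v = w := by
  decide +kernel

theorem dec_C : ∀ v w : Fin 3 → ZMod 3, inC v = true → inC w = true →
    ∃ k < 8, (gz.1 ^ k) *ᵥ v = w ∨ (gz.1 ^ k) *ᵥ v = -w := by
  decide +kernel

/-- **The orbit of the fixed point of `gz`.** -/
theorem orbit_alt (R : Subgroup S3) (h13 : ¬ 13 ∣ Nat.card R) (hg : gz ∈ R) :
    (∀ r ∈ R, r.1 0 2 = 0 ∧ r.1 1 2 = 0) ∨ (∀ r ∈ R, r.1 2 0 = 0 ∧ r.1 2 1 = 0) := by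
  classical
  let act : MulAction R (Fin 3 → ZMod 3) :=
    { smul := fun u w => ((u : S3) : Matrix (Fin 3) (Fin 3) (ZMod 3)) *ᵥ w
      one_smul := fun w => Matrix.one_mulVec w
      mul_smul := fun a b w => (Matrix.mulVec_mulVec _ _ _).symm }
  set e3 : Fin 3 → ZMod 3 := ![0, 0, 1] with he3
  set O : Set (Fin 3 → ZMod 3) := MulAction.orbit R e3 with hO
  have hmem : ∀ v, v ∈ O ↔ ∃ r ∈ R, r.1 *ᵥ e3 = v := by
    intro v
    constructor
    · rintro ⟨r, rfl⟩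
      exact ⟨r, r.2, rfl⟩
    · rintro ⟨r, hr, rfl⟩
      exact ⟨⟨r, hr⟩, rfl⟩
  have hdvd : O.ncard ∣ Nat.card R := by
    rw [hO, ← MulAction.index_stabilizer]
    exact Subgroup.index_dvd_card _
  have hRS : Nat.card R ∣ 5616 := by rw [← card_S3]; exact Subgroup.card_subgroup_dvd_card R
  have hmul : ∀ r ∈ R, ∀ v ∈ O, r.1 *ᵥ v ∈ O := by
    intro r hr v hv
    obtain ⟨u, hu, rfl⟩ := (hmem v).1 hv
    exact (hmem _).2 ⟨r * u, R.mul_mem hr hu, by rw [Matrix.mulVec_mulVec]; rfl⟩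
  have hge3 : gz.1 *ᵥ e3 = -e3 := by decide
  have hneg : ∀ v ∈ O, -v ∈ O := by
    intro v hv
    obtain ⟨u, hu, rfl⟩ := (hmem v).1 hv
    exact (hmem _).2 ⟨u * gz, R.mul_mem hu hg, by
      change (u.1 * gz.1) *ᵥ e3 = _
      rw [← Matrix.mulVec_mulVec, hge3, Matrix.mulVec_neg]⟩
  have hpow : ∀ k : ℕ, ∀ v ∈ O, gz.1 ^ k *ᵥ v ∈ O := by
    intro k v hv
    have h1 := hmul (gz ^ k) (R.pow_mem hg k) v hv
    rwa [Matrix.SpecialLinearGroup.coe_pow] at h1
  have hne0 : ∀ v ∈ O, v ≠ 0 := by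
    intro v hv h0
    obtain ⟨u, hu, rfl⟩ := (hmem v).1 hv
    have h1 : (u⁻¹ : S3).1 *ᵥ (u.1 *ᵥ e3) = e3 := by
      rw [Matrix.mulVec_mulVec]
      change (u⁻¹ * u : S3).1 *ᵥ e3 = e3
      rw [inv_mul_cancel]
      exact Matrix.one_mulVec _
    rw [h0, Matrix.mulVec_zero] at h1
    exact absurd h1 (by decide)
  have he3O : e3 ∈ O := MulAction.mem_orbit_self _
  have hBall : ∀ v ∈ O, v 2 = 0 → ∀ w : Fin 3 → ZMod 3, w 2 = 0 → w ≠ 0 → w ∈ O := by
    intro v hv hv2 w hw2 hw0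
    obtain ⟨k, -, rfl⟩ := dec_B v w hv2 (hne0 v hv) hw2 hw0
    exact hpow k v hv
  have hCall : ∀ v ∈ O, inC v = true → ∀ w : Fin 3 → ZMod 3, inC w = true → w ∈ O := by
    intro v hv hvC w hwC
    obtain ⟨k, -, h | h⟩ := dec_C v w hvC hwC
    · rw [← h]
      exact hpow k v hv
    · have h1 := hneg _ (hpow k v hv)
      rw [h, neg_neg] at h1
      exact h1
  have hA : ∀ w : Fin 3 → ZMod 3, w 0 = 0 → w 1 = 0 → w ≠ 0 → w ∈ O := by
    intro w h0 h1 hw
    have h2 : w = e3 ∨ w = -e3 := by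
      revert w
      decide
    rcases h2 with rfl | rfl
    · exact he3O
    · exact hneg _ he3O
  -- third columns
  have hcol : ∀ r ∈ R, r.1 *ᵥ e3 = fun i => r.1 i 2 := by
    intro r _
    ext i
    simp [he3, Matrix.mulVec, dotProduct, Fin.sum_univ_three]
  by_cases hb : ∃ v ∈ O, v 2 = 0
  · exfalso
    obtain ⟨v, hv, hv2⟩ := hb
    by_cases hc : ∃ v ∈ O, inC v = true
    · obtain ⟨v', hv', hv'C⟩ := hc
      have h1 : O = ((Finset.univ.filter fun w : Fin 3 → ZMod 3 => w ≠ 0 : Finset (Fin 3 → ZMod 3)) :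
          Set (Fin 3 → ZMod 3)) := by
        ext w
        rw [Finset.coe_filter]
        refine ⟨fun h => ⟨Finset.mem_univ _, hne0 w h⟩, fun ⟨_, h⟩ => ?_⟩
        by_cases h2 : w 2 = 0
        · exact hBall v hv hv2 w h2 h
        · by_cases h3 : inC w = true
          · exact hCall v' hv' hv'C w h3
          · simp only [inC, ne_eq, Bool.and_eq_true, decide_eq_true_eq, Bool.or_eq_true, not_and, not_or, not_not] at h3
            exact hA w (h3 h2).1 (h3 h2).2 h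
      rw [h1, Set.ncard_coe_finset, show (Finset.univ.filter fun w : Fin 3 → ZMod 3 => w ≠ 0).card = 26 by
        decide +kernel] at hdvd
      exact h13 ((by norm_num : 13 ∣ 26).trans hdvd)
    · push Not at hc
      have h1 : O = ((Finset.univ.filter fun w : Fin 3 → ZMod 3 => w ≠ 0 ∧ (w 2 = 0 ∨ (w 0 = 0 ∧ w 1 = 0)) :
          Finset (Fin 3 → ZMod 3)) : Set (Fin 3 → ZMod 3)) := by
        ext w
        rw [Finset.coe_filter]
        refine ⟨fun h => ⟨Finset.mem_univ _, hne0 w h, ?_⟩, fun ⟨_, h, h2⟩ => ?_⟩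
        · by_contra hcon
          apply hc w h
          simp only [inC, ne_eq, Bool.and_eq_true, decide_eq_true_eq, Bool.or_eq_true]
          tauto
        · rcases h2 with h2 | ⟨h2, h3⟩
          · exact hBall v hv hv2 w h2 h
          · exact hA w h2 h3 h
      rw [h1, Set.ncard_coe_finset, show (Finset.univ.filter fun w : Fin 3 → ZMod 3 =>
        w ≠ 0 ∧ (w 2 = 0 ∨ (w 0 = 0 ∧ w 1 = 0))).card = 10 by decide +kernel] at hdvd
      have h2 := hdvd.trans hRS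
      norm_num at h2
  · push Not at hb
    by_cases hc : ∃ v ∈ O, inC v = true
    · right
      obtain ⟨v', hv', hv'C⟩ := hc
      have key : ∀ r ∈ R, ∀ w : Fin 3 → ZMod 3, w 2 = 0 → w ≠ 0 → (r.1 *ᵥ w) 2 = 0 := by
        intro r hr w hw2 hw0
        by_contra hcon
        have h1 : w ∉ O := fun h => hb w h hw2
        apply h1
        have h2 : r.1 *ᵥ w ∈ O := by
          by_cases h3 : inC (r.1 *ᵥ w) = true
          · exact hCall v' hv' hv'C _ h3
          · simp only [inC, ne_eq, Bool.and_eq_true, decide_eq_true_eq, Bool.or_eq_true, not_and, not_or, not_not] at h3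
            exact hA _ (h3 hcon).1 (h3 hcon).2 (fun h4 => hcon (by rw [h4]; rfl))
        have h3 := hmul r⁻¹ (R.inv_mem hr) _ h2
        have h4 : (r⁻¹ : S3).1 *ᵥ (r.1 *ᵥ w) = w := by
          rw [Matrix.mulVec_mulVec]
          change (r⁻¹ * r : S3).1 *ᵥ w = w
          rw [inv_mul_cancel]
          exact Matrix.one_mulVec _
        rwa [h4] at h3
      intro r hr
      have h1 := key r hr ![1, 0, 0] (by decide) (by decide)
      have h2 := key r hr ![0, 1, 0] (by decide) (by decide)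
      simp [Matrix.mulVec, dotProduct, Fin.sum_univ_three] at h1 h2
      exact ⟨h1, h2⟩
    · left
      push Not at hc
      intro r hr
      have h1 : r.1 *ᵥ e3 ∈ O := hmul r hr e3 he3O
      have h2 := hb _ h1
      have h3 := hc _ h1
      rw [hcol r hr] at h2 h3
      simp only [inC, ne_eq, Bool.and_eq_true, decide_eq_true_eq, Bool.or_eq_true, not_and, not_or, not_not] at h3
      exact h3 h2

abbrev M2 := Matrix (Fin 2) (Fin 2) (ZMod 3)

/-- the element of order eight of `GL₂(3)` -/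
def bz : M2 := !![0, 1; 1, 1]

theorem dec_words : ∀ Y : M2, Y ^ 3 = 1 → Y ≠ 1 →
    25 ≤ (((Finset.range 8) ×ˢ (Finset.range 4)).image fun a : ℕ × ℕ => bz ^ a.1 * Y * bz ^ a.2).card := by
  decide +kernel

theorem dec_conj : ∀ X : M2, X ^ 3 = 1 → X ≠ 1 → ∃ C : M2, C.det ≠ 0 ∧ C * X = !![1, 1; 0, 1] * C := by
  decide +kernel

/-- the upper left block of the matrices with third column `(0, 0, *)` -/
def blkHom (R : Subgroup S3) (hR : ∀ r ∈ R, r.1 0 2 = 0 ∧ r.1 1 2 = 0) : R →* M2 where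
  toFun r := !![(r : S3).1 0 0, (r : S3).1 0 1; (r : S3).1 1 0, (r : S3).1 1 1]
  map_one' := by
    ext i j
    fin_cases i <;> fin_cases j <;> rfl
  map_mul' r s := by
    have h := hR r r.2
    ext i j
    fin_cases i <;> fin_cases j <;>
      simp [Matrix.mul_apply, Fin.sum_univ_three, Fin.sum_univ_two, h.1, h.2]

/-- the kernel of the block map -/
theorem blk_ker {R : Subgroup S3} {hR : ∀ r ∈ R, r.1 0 2 = 0 ∧ r.1 1 2 = 0} {r : R} (h : blkHom R hR r = 1) :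
    (r : S3).1 = !![1, 0, 0; 0, 1, 0; (r : S3).1 2 0, (r : S3).1 2 1, 1] := by
  have h1 := congrFun (congrFun h 0) 0
  have h2 := congrFun (congrFun h 0) 1
  have h3 := congrFun (congrFun h 1) 0
  have h4 := congrFun (congrFun h 1) 1
  simp [blkHom] at h1 h2 h3 h4
  obtain ⟨h5, h6⟩ := hR r r.2
  have h7 : (r : S3).1 2 2 = 1 := by
    have h8 := (r : S3).2
    rw [Matrix.det_fin_three] at h8
    rw [h1, h2, h3, h4, h5, h6] at h8
    simpa using h8
  ext i j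
  fin_cases i <;> fin_cases j <;> simp [h1, h2, h3, h4, h5, h6, h7]

theorem dec_g : ∀ u v : ZMod 3,
    ((gz.1 * !![1, 0, 0; 0, 1, 0; u, v, 1] * !![2, 1, 0; 1, 0, 0; 0, 0, 2] : Matrix (Fin 3) (Fin 3) (ZMod 3)) 2 0,
      (gz.1 * !![1, 0, 0; 0, 1, 0; u, v, 1] * !![2, 1, 0; 1, 0, 0; 0, 0, 2] : Matrix (Fin 3) (Fin 3) (ZMod 3)) 2 1) =
      (u + 2 * v, 2 * u) := by
  decide +kernel

theorem dec_id : (!![1, 0, 0; 0, 1, 0; 0, 0, 1] : Matrix (Fin 3) (Fin 3) (ZMod 3)) = (1 : S3).1 := by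
  decide

theorem mk_pow_one {G : Type*} [Group G] {R : Subgroup G} {y : G} (hy : y ∈ R) {k : ℕ} (h : y ^ k = 1) :
    (⟨y, hy⟩ : R) ^ k = 1 :=
  Subtype.ext (by rw [SubmonoidClass.coe_pow]; exact h)

theorem card_of_point (R : Subgroup S3) (hR : ∀ r ∈ R, r.1 0 2 = 0 ∧ r.1 1 2 = 0) (hg : gz ∈ R)
    {y : S3} (hy : y ∈ R) (hy3 : y ^ 3 = 1) (hy2 : (y.1 - 1) ^ 2 ≠ 0)
    {t : S3} (ht : t ∈ R) (ht3 : t ^ 3 = 1) (ht1 : t ≠ 1) (ht2 : (t.1 - 1) ^ 2 = 0) : 432 ∣ Nat.card R := by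
  classical
  set θ := blkHom R hR with hθ
  set f : R →* (M2)ˣ := θ.toHomUnits with hf
  have hfθ : ∀ r : R, ((f r : (M2)ˣ) : M2) = θ r := fun r => rfl
  have hcardGL : Nat.card (M2)ˣ = 48 := by
    have h := Matrix.card_GL_field (𝔽 := ZMod 3) 2
    rw [ZMod.card 3] at h
    have e1 : ∏ i : Fin 2, (3 ^ 2 - 3 ^ (i : ℕ)) = 48 := by rfl
    rw [e1] at h
    exact h
  -- elements of the kernel
  have hker1 : ∀ r : R, f r = 1 ↔ θ r = 1 := by
    intro r
    rw [← hfθ]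
    exact ⟨fun h => by rw [h]; rfl, fun h => Units.ext h⟩
  have hsq : ∀ r : R, θ r = 1 → ((r : S3).1 - 1) ^ 2 = 0 := by
    intro r h
    rw [blk_ker h]
    ext i j
    fin_cases i <;> fin_cases j <;> simp [pow_two, Matrix.mul_apply, Fin.sum_univ_three]
  have hY1 : θ ⟨y, hy⟩ ≠ 1 := fun h => hy2 (hsq ⟨y, hy⟩ h)
  have hY3 : θ ⟨y, hy⟩ ^ 3 = 1 := by
    rw [← map_pow, mk_pow_one hy hy3, map_one]
  have hB : θ ⟨gz, hg⟩ = bz := by
    change (!![gz.1 0 0, gz.1 0 1; gz.1 1 0, gz.1 1 1] : M2) = bz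
    decide
  -- the range
  have hrange : f.range = ⊤ := by
    have h1 := dec_words _ hY3 hY1
    set W := (((Finset.range 8) ×ˢ (Finset.range 4)).image fun a : ℕ × ℕ => bz ^ a.1 * θ ⟨y, hy⟩ * bz ^ a.2) with hW
    have h2 : (W : Set M2) ⊆ (fun u : (M2)ˣ => (u : M2)) '' (f.range : Set (M2)ˣ) := by
      intro w hw
      rw [hW, Finset.coe_image] at hw
      obtain ⟨a, -, rfl⟩ := hw
      refine ⟨f (⟨gz, hg⟩ ^ a.1 * ⟨y, hy⟩ * ⟨gz, hg⟩ ^ a.2), ⟨_, rfl⟩, ?_⟩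
      change θ (⟨gz, hg⟩ ^ a.1 * ⟨y, hy⟩ * ⟨gz, hg⟩ ^ a.2) = _
      rw [map_mul, map_mul, map_pow, map_pow, hB]
    have h3 := Set.ncard_le_ncard h2 (Set.toFinite _)
    rw [Set.ncard_coe_finset, Set.ncard_image_of_injective _ Units.val_injective] at h3
    have h4 : (f.range : Set (M2)ˣ).ncard = Nat.card f.range := rfl
    rw [h4] at h3
    have h5 : Nat.card f.range ∣ 48 := by rw [← hcardGL]; exact Subgroup.card_subgroup_dvd_card _
    apply Subgroup.eq_top_of_card_eq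
    rw [hcardGL]
    obtain ⟨k, hk⟩ := h5
    have h6 : k < 2 := by
      by_contra hcon
      push Not at hcon
      have := Nat.mul_le_mul (h1.trans h3) hcon
      omega
    have h7 : k ≠ 0 := by
      rintro rfl
      omega
    have h8 : k = 1 := by omega
    rw [h8, mul_one] at hk
    exact hk.symm
  have hsurj : ∀ C : M2, C.det ≠ 0 → ∃ r : R, θ r = C := by
    intro C hC
    have hu : IsUnit C := (Matrix.isUnit_iff_isUnit_det C).2 (isUnit_iff_ne_zero.2 hC)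
    obtain ⟨u, rfl⟩ := hu
    have h1 : u ∈ f.range := by rw [hrange]; trivial
    obtain ⟨r, rfl⟩ := h1
    exact ⟨r, rfl⟩
  -- a nontrivial element of the kernel
  obtain ⟨k, hk1, hkθ⟩ : ∃ k : R, k ≠ 1 ∧ θ k = 1 := by
    by_cases hT : θ ⟨t, ht⟩ = 1
    · exact ⟨⟨t, ht⟩, fun h => ht1 (congrArg Subtype.val h), hT⟩
    · have hT3 : θ ⟨t, ht⟩ ^ 3 = 1 := by
        rw [← map_pow, mk_pow_one ht ht3, map_one]
      obtain ⟨C₁, hC₁, h1⟩ := dec_conj _ hT3 hT
      obtain ⟨C₂, hC₂, h2⟩ := dec_conj _ hY3 hY1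
      obtain ⟨r₁, rfl⟩ := hsurj C₁ hC₁
      obtain ⟨r₂, rfl⟩ := hsurj C₂ hC₂
      have h3 : θ (r₁ * ⟨t, ht⟩ * r₁⁻¹) = θ (r₂ * ⟨y, hy⟩ * r₂⁻¹) := by
        rw [map_mul, map_mul θ r₁, h1, map_mul θ (r₂ * _), map_mul θ r₂, h2, mul_assoc, mul_assoc, ← map_mul, ← map_mul,
          mul_inv_cancel, mul_inv_cancel]
      refine ⟨(r₂ * ⟨y, hy⟩ * r₂⁻¹)⁻¹ * (r₁ * ⟨t, ht⟩ * r₁⁻¹), ?_, ?_⟩
      · intro h
        rw [inv_mul_eq_one] at h
        apply hy2
        have h4 : (⟨y, hy⟩ : R) = (r₂⁻¹ * r₁) * ⟨t, ht⟩ * (r₂⁻¹ * r₁)⁻¹ := by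
          calc (⟨y, hy⟩ : R) = r₂⁻¹ * (r₂ * ⟨y, hy⟩ * r₂⁻¹) * r₂ := by group
            _ = _ := by rw [h]; group
        have h5 : y = ((r₂⁻¹ * r₁ : R) : S3) * t * ((r₂⁻¹ * r₁ : R) : S3)⁻¹ := congrArg Subtype.val h4
        set w : S3 := ((r₂⁻¹ * r₁ : R) : S3) with hw
        have h6 : w.1 * (w⁻¹ : S3).1 = 1 := by
          change (w * w⁻¹ : S3).1 = 1
          rw [mul_inv_cancel]
          rfl
        have h7 : (w⁻¹ : S3).1 * w.1 = 1 := by
          change (w⁻¹ * w : S3).1 = 1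
          rw [inv_mul_cancel]
          rfl
        have h8 : y.1 - 1 = w.1 * (t.1 - 1) * (w⁻¹ : S3).1 := by
          rw [h5]
          change w.1 * t.1 * (w⁻¹ : S3).1 - 1 = _
          rw [mul_sub, sub_mul, mul_one, h6]
        rw [h8, pow_two]
        calc w.1 * (t.1 - 1) * (w⁻¹ : S3).1 * (w.1 * (t.1 - 1) * (w⁻¹ : S3).1) =
            w.1 * ((t.1 - 1) * ((w⁻¹ : S3).1 * w.1) * (t.1 - 1)) * (w⁻¹ : S3).1 := by simp only [mul_assoc]
          _ = 0 := by rw [h7, mul_one, ← pow_two, ht2, mul_zero, zero_mul]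
      · have h4 : θ ((r₂ * ⟨y, hy⟩ * r₂⁻¹)⁻¹ * (r₂ * ⟨y, hy⟩ * r₂⁻¹)) = 1 := by rw [inv_mul_cancel, map_one]
        rw [map_mul] at h4 ⊢
        rw [h3]
        exact h4
  -- the order of the kernel
  let ψ : f.ker →* Multiplicative (ZMod 3 × ZMod 3) :=
    { toFun := fun r => Multiplicative.ofAdd (((r : R) : S3).1 2 0, ((r : R) : S3).1 2 1)
      map_one' := rfl
      map_mul' := by
        intro a b
        have ha := blk_ker ((hker1 _).1 (MonoidHom.mem_ker.1 a.2))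
        have hb := blk_ker ((hker1 _).1 (MonoidHom.mem_ker.1 b.2))
        have hm : (((a * b : f.ker) : R) : S3).1 = ((a : R) : S3).1 * ((b : R) : S3).1 := rfl
        rw [← ofAdd_add]
        congr 1
        rw [hm, ha, hb]
        simp [Matrix.mul_apply, Fin.sum_univ_three] }
  have hψ : Function.Injective ψ := by
    intro a b h
    have ha := blk_ker ((hker1 _).1 (MonoidHom.mem_ker.1 a.2))
    have hb := blk_ker ((hker1 _).1 (MonoidHom.mem_ker.1 b.2))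
    have h1 : (((a : R) : S3).1 2 0, ((a : R) : S3).1 2 1) = (((b : R) : S3).1 2 0, ((b : R) : S3).1 2 1) := h
    rw [Prod.mk.injEq] at h1
    apply Subtype.ext
    apply Subtype.ext
    apply Subtype.ext
    rw [ha, hb, h1.1, h1.2]
  have h9 : Nat.card f.ker ∣ 9 := by
    have h1 := Subgroup.card_dvd_of_injective ψ hψ
    have h2 : Nat.card (Multiplicative (ZMod 3 × ZMod 3)) = 9 := by
      rw [Nat.card_eq_fintype_card]
      rfl
    rwa [h2] at h1
  have h4 : 4 ≤ Nat.card f.ker := by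
    have hkk : k ∈ f.ker := MonoidHom.mem_ker.2 ((hker1 k).2 hkθ)
    have hgk : (⟨gz, hg⟩ : R) * k * (⟨gz, hg⟩ : R)⁻¹ ∈ f.ker := f.normal_ker.conj_mem k hkk _
    have hkm := blk_ker hkθ
    obtain ⟨u, hu⟩ : ∃ u, u = (k : S3).1 2 0 := ⟨_, rfl⟩
    obtain ⟨v, hv⟩ : ∃ v, v = (k : S3).1 2 1 := ⟨_, rfl⟩
    rw [← hu, ← hv] at hkm
    have huv : ¬ (u = 0 ∧ v = 0) := by
      rintro ⟨rfl, rfl⟩
      apply hk1
      apply Subtype.ext
      apply Subtype.ext
      rw [hkm]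
      exact dec_id
    have hginv : (gz⁻¹ : S3).1 = !![2, 1, 0; 1, 0, 0; 0, 0, 2] := by decide
    have e1 : ψ ⟨k, hkk⟩ = Multiplicative.ofAdd (u, v) := by
      change Multiplicative.ofAdd ((k : S3).1 2 0, (k : S3).1 2 1) = _
      rw [← hu, ← hv]
    have e2 : ψ ⟨_, hgk⟩ = Multiplicative.ofAdd (u + 2 * v, 2 * u) := by
      change Multiplicative.ofAdd ((gz.1 * (k : S3).1 * (gz⁻¹ : S3).1) 2 0, (gz.1 * (k : S3).1 * (gz⁻¹ : S3).1) 2 1) = _
      rw [hkm, hginv]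
      exact congrArg Multiplicative.ofAdd (dec_g u v)
    have h5 : ({Multiplicative.ofAdd (0, 0), Multiplicative.ofAdd (u, v), Multiplicative.ofAdd (2 * u, 2 * v),
        Multiplicative.ofAdd (u + 2 * v, 2 * u)} : Finset (Multiplicative (ZMod 3 × ZMod 3))).card = 4 := by
      clear e1 e2 hkm hu hv
      revert u v
      decide
    have h6 : (({Multiplicative.ofAdd (0, 0), Multiplicative.ofAdd (u, v), Multiplicative.ofAdd (2 * u, 2 * v),
        Multiplicative.ofAdd (u + 2 * v, 2 * u)} : Finset (Multiplicative (ZMod 3 × ZMod 3))) :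
        Set (Multiplicative (ZMod 3 × ZMod 3))) ⊆ (ψ.range : Set (Multiplicative (ZMod 3 × ZMod 3))) := by
      intro w hw
      rw [Finset.mem_coe, Finset.mem_insert, Finset.mem_insert, Finset.mem_insert, Finset.mem_singleton] at hw
      rcases hw with rfl | rfl | rfl | rfl
      · exact ⟨1, map_one ψ⟩
      · exact ⟨⟨k, hkk⟩, e1⟩
      · refine ⟨⟨k, hkk⟩ ^ 2, ?_⟩
        rw [map_pow, e1, pow_two, ← ofAdd_add]
        congr 1
        rw [Prod.mk_add_mk, two_mul, two_mul]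
      · exact ⟨⟨_, hgk⟩, e2⟩
    have h7 := Set.ncard_le_ncard h6 (Set.toFinite _)
    rw [Set.ncard_coe_finset, h5] at h7
    have h8 : Nat.card f.ker = Nat.card ψ.range := Nat.card_congr (MonoidHom.ofInjective hψ).toEquiv
    rw [h8]
    exact h7
  have h9' : Nat.card f.ker = 9 := by
    have h1 : Nat.card f.ker ∈ Nat.divisors 9 := Nat.mem_divisors.2 ⟨h9, by norm_num⟩
    rw [show Nat.divisors 9 = {1, 3, 9} by decide] at h1
    simp only [Finset.mem_insert, Finset.mem_singleton] at h1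
    omega
  have hfinal := Subgroup.card_mul_index f.ker
  rw [Subgroup.index_ker, hrange, Subgroup.card_top, hcardGL, h9'] at hfinal
  rw [← hfinal]

end Cfsg.Agent.H205.DerPsl
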