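import Cfsg.Agent.H205.Der.L33

/-!
# `L3(3)`, continued (helper205, S3502)
-/

set_option autoImplicit false

namespace Cfsg.Agent.H205.DerPsl

open Subgroup Matrix Cfsg Cfsg.Agent.H39.DerPsl Cfsg.Agent.H439.Der Cfsg.Agent.OrdDiv Cfsg.Agent.H938.Sax
  Cfsg.Agent.ClassicalGeometry.AutPSL.Root Cfsg.Agent.ClassicalGeometry.AutPSL.Auto Cfsg.Agent.H199.PslAut

theorem itr_gz : (itr gz : S3) = gz⁻¹ := by
  apply Subtype.ext
  change ((gz⁻¹ : S3).1)ᵀ = (gz⁻¹ : S3).1
  decide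

theorem sq_itr {n : ℕ} {F : Type*} [Field F] {x : Matrix.SpecialLinearGroup (Fin n) F}
    (hsq : ((x : Matrix (Fin n) (Fin n) F) - 1) ^ 2 = 0) :
    (((itr x : Matrix.SpecialLinearGroup (Fin n) F) : Matrix (Fin n) (Fin n) F) - 1) ^ 2 = 0 := by
  have h1 : ((itr x : Matrix.SpecialLinearGroup (Fin n) F) : Matrix (Fin n) (Fin n) F) =
      ((x⁻¹ : Matrix.SpecialLinearGroup (Fin n) F) : Matrix (Fin n) (Fin n) F)ᵀ := rfl
  have h3 : ((x⁻¹ : Matrix.SpecialLinearGroup (Fin n) F) : Matrix (Fin n) (Fin n) F) *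
      (x : Matrix (Fin n) (Fin n) F) = 1 := by
    rw [← Matrix.SpecialLinearGroup.coe_mul, inv_mul_cancel, Matrix.SpecialLinearGroup.coe_one]
  set X := (x : Matrix (Fin n) (Fin n) F) with hX
  set Y := ((x⁻¹ : Matrix.SpecialLinearGroup (Fin n) F) : Matrix (Fin n) (Fin n) F) with hY
  rw [h1]
  have h4 : (Yᵀ - 1) ^ 2 = ((Y - 1) ^ 2)ᵀ := by
    rw [Matrix.transpose_pow, Matrix.transpose_sub, Matrix.transpose_one]
  have h5 : (Y - 1) ^ 2 = Y * Y * (X - 1) ^ 2 := by
    have h6 : (X - 1) ^ 2 = X * X - X - X + 1 := by noncomm_ring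
    rw [h6]
    calc (Y - 1) ^ 2 = Y * Y - Y - Y + 1 := by noncomm_ring
      _ = Y * (Y * X) * X - Y * (Y * X) - Y * (Y * X) + Y * Y := by rw [h3, mul_one, h3]; abel
      _ = _ := by noncomm_ring
  rw [h4, h5, hsq, mul_zero, Matrix.transpose_zero]

theorem itr_itr {n : ℕ} {F : Type*} [Field F] (x : Matrix.SpecialLinearGroup (Fin n) F) : itr (itr x) = x := by
  have h := itr_mul_itr (ι := Fin n) (F := F)
  exact DFunLike.congr_fun h x

/-- both alternatives -/
theorem card_of_gz (R : Subgroup S3) (h13 : ¬ 13 ∣ Nat.card R) (hg : gz ∈ R)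
    {y : S3} (hy : y ∈ R) (hy3 : y ^ 3 = 1) (hy2 : (y.1 - 1) ^ 2 ≠ 0)
    {t : S3} (ht : t ∈ R) (ht3 : t ^ 3 = 1) (ht1 : t ≠ 1) (ht2 : (t.1 - 1) ^ 2 = 0) : Nat.card R = 432 := by
  have h432 : 432 ∣ Nat.card R := by
    rcases orbit_alt R h13 hg with hR | hR
    · exact card_of_point R hR hg hy hy3 hy2 ht ht3 ht1 ht2
    · have hcard : Nat.card (R.map (itr : MulAut S3).toMonoidHom) = Nat.card R :=
        (Nat.card_congr (R.equivMapOfInjective _ (itr : MulAut S3).injective).toEquiv).symm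
      rw [← hcard]
      refine card_of_point _ ?_ ?_ (y := itr y) ⟨y, hy, rfl⟩ (by rw [← map_pow, hy3, map_one]) ?_ (t := itr t)
        ⟨t, ht, rfl⟩ (by rw [← map_pow, ht3, map_one]) ?_ (sq_itr ht2)
      · rintro _ ⟨r, hr, rfl⟩
        have h1 := hR _ (R.inv_mem hr)
        exact h1
      · exact ⟨gz⁻¹, R.inv_mem hg, by
          change itr gz⁻¹ = gz
          rw [map_inv, itr_gz, inv_inv]⟩
      · intro h
        apply hy2
        have h1 := sq_itr h
        rwa [itr_itr] at h1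
      · intro h
        apply ht1
        rw [← itr_itr t, h, map_one]
  have h2 : Nat.card R ∣ 432 := by
    have h3 : Nat.card R ∣ 13 * 432 := by
      have := Subgroup.card_subgroup_dvd_card R
      rwa [card_S3] at this
    exact (Nat.Coprime.symm ((Nat.Prime.coprime_iff_not_dvd (by norm_num)).2 h13)).dvd_of_dvd_mul_left h3
  exact Nat.dvd_antisymm h2 h432

abbrev P3 := Matrix.ProjectiveSpecialLinearGroup (Fin 3) (ZMod 3)

theorem pr_inj : Function.Injective (pr : S3 → P3) := by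
  intro x y h
  have hz : x⁻¹ * y ∈ Subgroup.center S3 := by
    rw [← pr_eq_one_iff, map_mul, map_inv, h, inv_mul_cancel]
  have h1 := smul_pow_gcd (by norm_num) hz
  rw [ZMod.card, show Nat.gcd 3 (3 - 1) = 1 from rfl, pow_one] at h1
  exact inv_mul_eq_one.1 h1

theorem card_P3 : Nat.card P3 = 5616 := by
  rw [← card_S3]
  exact (Nat.card_congr (Equiv.ofBijective _ ⟨pr_inj, pr_surjective⟩)).symm

theorem l33_hex : (3, Fintype.card (ZMod 3)) ∉ ({(3, 2), (3, 4), (4, 2)} : Finset (ℕ × ℕ)) := by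
  rw [ZMod.card]
  decide

/-- **Subgroups of `L3(3)` missing `13`.** -/
theorem three_l33 (M : Subgroup P3) (h13 : ¬ 13 ∣ Nat.card M) (h432 : Nat.card M ≠ 432) : Three P3 M := by
  have hfin : Finite P3 := Nat.finite_of_card_ne_zero (by rw [card_P3]; norm_num)
  by_contra hcon
  have hSC : ¬ SC P3 13 := nsc_psl (by norm_num) l33_hex 13 (by norm_num) (by rw [card_P3]; norm_num)
  have key : ∀ z : P3, ¬ 13 ∣ orderOf z → ∃ φ : P3 ≃* P3, φ z ∈ M := by
    intro z hz
    by_contra h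
    push Not at h
    exact hcon (Three.of_not_SC h13 hSC h hz)
  have hco : Nat.Coprime 3 (Nat.gcd 3 (Fintype.card (ZMod 3) - 1)) := by
    rw [ZMod.card]
    decide
  have hreg : (regU (ZMod 3)) ^ 3 = 1 := by decide
  have htr : (transU (ZMod 3)) ^ 3 = 1 := by decide
  have hg8 : gz ^ 8 = 1 := by decide
  have htsq : ((transU (ZMod 3)).1 - 1) ^ 2 = 0 := by decide
  have hrsq : ((regU (ZMod 3)).1 - 1) ^ 2 ≠ 0 := by decide
  have htne : transU (ZMod 3) ≠ 1 := by decide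
  have h13' : ∀ {z : P3} {k : ℕ}, z ^ k = 1 → ¬ 13 ∣ k → ¬ 13 ∣ orderOf z := by
    intro z k hz hk h
    exact hk (h.trans (orderOf_dvd_of_pow_eq_one hz))
  obtain ⟨φ₁, h1⟩ := key (pr gz) (h13' (k := 8) (by rw [← map_pow, hg8, map_one]) (by norm_num))
  obtain ⟨φ₂, h2⟩ := key (pr (regU (ZMod 3))) (h13' (k := 3) (by rw [← map_pow, hreg, map_one]) (by norm_num))
  obtain ⟨φ₃, h3⟩ := key (pr (transU (ZMod 3))) (h13' (k := 3) (by rw [← map_pow, htr, map_one]) (by norm_num))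
  obtain ⟨y, hy⟩ := pr_surjective (φ₁.symm (φ₂ (pr (regU (ZMod 3)))))
  obtain ⟨t, ht⟩ := pr_surjective (φ₁.symm (φ₃ (pr (transU (ZMod 3)))))
  set R : Subgroup S3 := (M.comap φ₁.toMonoidHom).comap (pr : S3 →* P3) with hR
  have hcard : Nat.card R = Nat.card M := by
    refine Nat.card_congr (Equiv.ofBijective (fun r : R => (⟨φ₁ (pr (r : S3)), r.2⟩ : M)) ⟨?_, ?_⟩)
    · intro a b h
      exact Subtype.ext (pr_inj (φ₁.injective (congrArg Subtype.val h)))
    · rintro ⟨m, hm⟩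
      obtain ⟨x, hx⟩ := pr_surjective (φ₁.symm m)
      have hxm : φ₁ (pr x) = m := by rw [hx]; exact φ₁.apply_symm_apply m
      exact ⟨⟨x, by
        change φ₁ (pr x) ∈ M
        rwa [hxm]⟩, Subtype.ext hxm⟩
  apply h432
  rw [← hcard]
  have hy3 : y ^ 3 = 1 := by
    apply pr_inj
    rw [map_pow, hy, ← map_pow, ← map_pow, ← map_pow, hreg, map_one, map_one, map_one]
  have ht3 : t ^ 3 = 1 := by
    apply pr_inj
    rw [map_pow, ht, ← map_pow, ← map_pow, ← map_pow, htr, map_one, map_one, map_one]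
  refine card_of_gz R (by rwa [hcard]) h1 (y := y) ?_ hy3 ?_ (t := t) ?_ ht3 ?_ ?_
  · change φ₁ (pr y) ∈ M
    rw [hy]
    simpa using h2
  · intro h
    apply hrsq
    refine sq_of_aut (by norm_num) hco hy3 hreg (φ₁.trans φ₂.symm) ?_ h
    rw [hy]
    simp
  · change φ₁ (pr t) ∈ M
    rw [ht]
    simpa using h3
  · rintro rfl
    apply htne
    apply pr_inj
    apply φ₃.injective
    apply φ₁.symm.injective
    rw [← ht, map_one, map_one, map_one]
  · refine sq_of_aut (by norm_num) hco htr ht3 (φ₃.trans φ₁.symm) ?_ htsq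
    rw [ht]
    rfl

theorem P3.row (h : ∀ M : Subgroup P3, IsCoatom M → PGap P3 M) : RowS P3 := by
  have hfin : Finite P3 := Nat.finite_of_card_ne_zero (by rw [card_P3]; norm_num)
  have hnsc : NSC P3 := nsc_psl (by norm_num) l33_hex
  refine RowS.of_coatoms fun M hM => ?_
  obtain ⟨v, hv, hd, hnd⟩ := h M hM
  by_cases hv13 : v = 13
  · subst hv13
    by_cases h432 : Nat.card M = 432
    · refine Or.inr ⟨Two.of_pgap hnsc (h M hM), fun R hR => three_l33 R ?_ ?_⟩
      · exact fun h1 => hnd (h1.trans (Subgroup.card_dvd_of_le hR.le))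
      · intro h1
        have h2 := Subgroup.eq_of_le_of_card_ge hR.le (by rw [h1, h432])
        exact hR.ne h2
    · exact Or.inl (three_l33 M hnd h432)
  · left
    refine three_of_gap (by norm_num) l33_hex hv hd ?_ M hnd
    rw [ZMod.card]
    simp [hv13]

end Cfsg.Agent.H205.DerPsl
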