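import Cfsg.Agent.H205.Der.PslE

/-!
# Three `Aut`-classes for every prime in `PSL_n(q)` (helper205, S3502)
-/

set_option autoImplicit false

namespace Cfsg.Agent.H205.DerPsl

open Matrix Cfsg.Agent.H72 Cfsg.Agent.H72.AdjPSL Cfsg.Agent.H72.AdjOrth Cfsg.Agent.H39.DerPsl Cfsg.Agent.H439.Der
  Cfsg.Agent.ClassicalGeometry.AutPSL.Root Cfsg.Agent.ClassicalGeometry.AutPSL.Auto Cfsg.Agent.H199.PslAut

variable {F : Type*} [Field F] [Fintype F] {n : ℕ}

/-- prime factors of `k` are `3`, `9 ∤ k` -/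
theorem dvd_three {k : ℕ} (hk : k ≠ 0) (h : ∀ r : ℕ, r.Prime → r ∣ k → r = 3) (h9 : ¬ 9 ∣ k) : k ∣ 3 := by
  have h1 := Nat.eq_prime_pow_of_unique_prime_dvd hk (p := 3) (fun {d} hd hdk => h d hd hdk)
  have h2 : k.primeFactorsList.length ≤ 1 := by
    by_contra hc
    push Not at hc
    apply h9
    rw [h1]
    exact pow_dvd_pow 3 (show 2 ≤ _ from hc)
  have h3 := pow_dvd_pow 3 h2
  rw [← h1] at h3
  simpa using h3

/-- **The primes of weight `n - 1`.** -/
theorem three_tor {p v : ℕ} [hp : Fact p.Prime] [CharP F p] (hn : 4 ≤ n) (hv : v.Prime)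
    (h42 : ¬ (n = 4 ∧ Fintype.card F = 2)) (h43 : ¬ (n = 4 ∧ Fintype.card F = 3 ∧ v = 13))
    (h52 : ¬ (n = 5 ∧ Fintype.card F = 2 ∧ v = 5))
    (hvp : v ≠ p) (hvq : ¬ v ∣ Fintype.card F - 1)
    (he : orderOf ((Fintype.card F : ℕ) : ZMod v) = n - 1) :
    ¬ SCC (Matrix.ProjectiveSpecialLinearGroup (Fin n) F) v := by
  obtain ⟨f, -, hqf⟩ := FiniteField.card F p
  have hq1 : 1 < Fintype.card F := Fintype.one_lt_card
  have hvd : v ∣ Fintype.card F ^ (n - 1) - 1 := by
    have h1 := dvd_pow_ee (q := Fintype.card F) (r := v) Fintype.card_pos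
    rwa [ee, he] at h1
  have hgq : Nat.gcd n (Fintype.card F - 1) ∣ Fintype.card F - 1 := Nat.gcd_dvd_right _ _
  have hgn : Nat.gcd n (Fintype.card F - 1) ∣ n := Nat.gcd_dvd_left _ _
  have hz := exists_tor (F := F) (n := n) (by omega)
  obtain ⟨e, rfl⟩ : ∃ e, n = e + 1 := ⟨n - 1, by omega⟩
  rw [Nat.add_sub_cancel] at he hvd hz
  obtain ⟨q, hq⟩ : ∃ q, q = Fintype.card F := ⟨_, rfl⟩
  obtain ⟨d, hdd⟩ : ∃ d, d = Nat.gcd (e + 1) (q - 1) := ⟨_, rfl⟩
  rw [← hq] at hq1 hvd hgq hgn hz hqf hvq h42 h43 h52 he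
  rw [← hdd] at hgq hgn hz
  have hd0 : 0 < d := by rw [hdd]; exact Nat.gcd_pos_of_pos_left _ (by omega)
  have hdq : d ∣ q ^ e - 1 := hgq.trans (pow_sub_dvd q e hq1.le)
  have hvd' : ¬ v ∣ d := fun h => hvq (h.trans hgq)
  obtain ⟨c, hc⟩ := hdq
  rw [hc, Nat.mul_div_cancel_left c hd0] at hz
  have hvc : v ∣ c := by
    rw [hc] at hvd
    exact (hv.dvd_mul.1 hvd).resolve_left hvd'
  obtain ⟨m, rfl⟩ := hvc
  have hgs := gs_mul q e hq1.le
  have hpos : 0 < q ^ e - 1 := by
    have : 1 < q ^ e := Nat.one_lt_pow (by omega) hq1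
    omega
  have hm0 : m ≠ 0 := by
    rintro rfl
    rw [mul_zero, mul_zero] at hc
    omega
  have hdle : d ≤ q - 1 := Nat.le_of_dvd (by omega) hgq
  have hgsle : gs q e ≤ v * m * 1 := by
    have h1 : gs q e * (q - 1) ≤ v * m * (q - 1) := by
      rw [hgs, hc, mul_comm d]
      exact Nat.mul_le_mul_left _ hdle
    rw [mul_one]
    exact Nat.le_of_mul_le_mul_right h1 (by omega)
  have hm : v * m ∣ q ^ e - 1 := ⟨d, by rw [hc, mul_comm]⟩
  -- small exceptions
  have x42 : ¬ (e = 3 ∧ q = 2) := fun h => h42 ⟨by omega, h.2⟩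
  have x43 : ¬ (e = 3 ∧ q = 3) := by
    rintro ⟨rfl, rfl⟩
    have h1 : v ∣ 2 * 13 := by
      rw [show (2 * 13 : ℕ) = 3 ^ 3 - 1 by norm_num]
      exact (dvd_mul_right _ _).trans hm
    rcases hv.dvd_mul.1 h1 with h2 | h2
    · exact hvq h2
    · exact h43 ⟨rfl, rfl, (Nat.prime_dvd_prime_iff_eq hv (by norm_num)).1 h2⟩
  have x52 : ¬ (e = 4 ∧ q = 2) := by
    rintro ⟨rfl, rfl⟩
    have h1 : v ∣ 3 * 5 := by
      rw [show (3 * 5 : ℕ) = 2 ^ 4 - 1 by norm_num]
      exact (dvd_mul_right _ _).trans hm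
    rcases hv.dvd_mul.1 h1 with h2 | h2
    · have h3 := (Nat.prime_dvd_prime_iff_eq hv (by norm_num)).1 h2
      subst h3
      have h4 : ee 2 3 ∣ 2 := ee_dvd (by norm_num) (by norm_num)
      rw [ee, he] at h4
      exact absurd (Nat.le_of_dvd (by norm_num) h4) (by norm_num)
    · exact h52 ⟨rfl, rfl, (Nat.prime_dvd_prime_iff_eq hv (by norm_num)).1 h2⟩
  have x44 : (e = 3 ∧ q = 4) → d = 1 := by
    rintro ⟨rfl, rfl⟩
    rw [hdd]
    decide
  -- `J`
  have hJ : Nat.Coprime (v * m) (q - 1) → 4 * (e * (f : ℕ)) + 1 < v * m := by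
    intro hcop
    have h1 : q - 1 ∣ d * (v * m) := by rw [← hc]; exact pow_sub_dvd q e hq1.le
    have h2 : q - 1 ∣ d := hcop.symm.dvd_of_dvd_mul_right h1
    have h3 : d = q - 1 := Nat.dvd_antisymm hgq h2
    have h4 : gs q e = v * m := by
      rw [hc, h3, mul_comm (q - 1)] at hgs
      exact Nat.eq_of_mul_eq_mul_right (by omega) hgs
    have h5 := num_J (n := e) (g := 1) hp.out f.pos hqf (by omega) (by
      simp only [Finset.mem_insert, Finset.mem_singleton, Prod.mk.injEq, not_or]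
      refine ⟨x42, x43, fun h => ?_, x52⟩
      have := x44 h
      rw [h.2] at h3
      omega) (one_dvd _)
    rw [h4, mul_one] at h5
    exact h5
  have hvq' := (Nat.Prime.coprime_iff_not_dvd hv).2 hvq
  rw [hq] at hvq he
  refine three_core (p := p) (f := f) (m := m) (e := e) (by omega) (by rw [← hq]; exact hqf) f.pos hv hvp hvq he
    (by omega) (by omega) (by omega) hz hm0 (by rw [← hq]; exact hm) ?_ ?_ ?_
  · rintro rfl
    rw [mul_one] at hJ
    exact hJ hvq'
  · intro hmp hmq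
    rw [← hq] at hmq
    exact hJ (Nat.Coprime.mul_left hvq' ((Nat.Prime.coprime_iff_not_dvd hmp).2 hmq))
  · intro hmp hme
    rw [← hq] at hme
    rcases Nat.lt_or_ge e 4 with he4 | he4
    · -- `e = 3`
      obtain rfl : e = 3 := by omega
      have hmq : m ∣ q - 1 := by
        rcases nonprim (by omega) hmp (by norm_num) ((dvd_mul_left _ _).trans hm) hme with h | ⟨h1, h2, -⟩
        · exact h
        · omega
      have hvg : v ∣ gs q 3 := by
        have h1 : v ∣ gs q 3 * (q - 1) := by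
          rw [hgs]
          exact (dvd_mul_right _ _).trans hm
        exact hvq'.dvd_of_dvd_mul_right h1
      obtain ⟨k, hk⟩ := hvg
      have hk1 : k * (q - 1) = d * m := by
        have h1 : v * (k * (q - 1)) = v * (d * m) := by
          rw [← mul_assoc, ← hk, hgs, hc]
          ring
        exact Nat.eq_of_mul_eq_mul_left hv.pos h1
      have hg0 := gs_pos q (n := 3) (by norm_num)
      have hk0 : k ≠ 0 := by
        rintro rfl
        omega
      have hkr : ∀ r : ℕ, r.Prime → r ∣ k → r = 3 := by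
        intro r hr hrk
        have h1 : r ∣ q - 1 := by
          have h2 : r ∣ d * m := by
            rw [← hk1]
            exact hrk.mul_right _
          rcases hr.dvd_mul.1 h2 with h3 | h3
          · exact h3.trans hgq
          · exact h3.trans hmq
        have h2 := gs_mod_sub (by omega) h1 (show r ∣ gs q 3 by rw [hk]; exact hrk.mul_left _)
        exact (Nat.prime_dvd_prime_iff_eq hr Nat.prime_three).1 h2
      have hk3 : k ∣ 3 := dvd_three hk0 hkr (fun h => nine_not_dvd q (by rw [hk]; exact h.mul_left _))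
      have hkg : k ∣ Nat.gcd 3 (q - 1) := by
        refine Nat.dvd_gcd hk3 ?_
        rcases (Nat.dvd_prime Nat.prime_three).1 hk3 with h1 | h1
        · rw [h1]
          exact one_dvd _
        · have h2 : 3 ∣ d * m := by
            rw [← hk1, h1]
            exact dvd_mul_right _ _
          rw [h1]
          rcases Nat.prime_three.dvd_mul.1 h2 with h3 | h3
          · exact h3.trans hgq
          · exact h3.trans hmq
      have h34 : ¬ (3 = 3 ∧ q = 4) := by
        rintro ⟨-, rfl⟩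
        have h1 := x44 ⟨rfl, rfl⟩
        rw [h1] at hc hk1
        have h2 := (Nat.prime_dvd_prime_iff_eq hmp Nat.prime_three).1 hmq
        subst h2
        have h3 : v = 21 := by omega
        rw [h3] at hv
        norm_num at hv
      have h5 := num_J (n := 3) (g := k) hp.out f.pos hqf le_rfl (by
        simp only [Finset.mem_insert, Finset.mem_singleton, Prod.mk.injEq, not_or]
        exact ⟨fun h => x42 ⟨rfl, h.2⟩, fun h => x43 ⟨rfl, h.2⟩, fun h => h34 ⟨rfl, h.2⟩, by omega⟩) hkg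
      rw [hk] at h5
      have h6 := Nat.lt_of_mul_lt_mul_right h5
      have h7 := cc_le 3 f
      omega
    · have hex : (e, q) ∉ ({(4, 2), (4, 3), (5, 2)} : Finset (ℕ × ℕ)) := by
        simp only [Finset.mem_insert, Finset.mem_singleton, Prod.mk.injEq, not_or]
        refine ⟨x52, ?_, ?_⟩
        · rintro ⟨rfl, rfl⟩
          have hd1 : d = 1 := by rw [hdd]; decide
          rw [hd1, one_mul] at hc
          have h1 : v ∣ 16 * 5 := ⟨m, by rw [← hc]; norm_num⟩
          rcases hv.dvd_mul.1 h1 with h2 | h2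
          · have h3 := hv.dvd_of_dvd_pow (show v ∣ 2 ^ 4 from h2)
            rw [← hq] at hvq
            exact hvq h3
          · have h3 := (Nat.prime_dvd_prime_iff_eq hv (by norm_num)).1 h2
            subst h3
            have h4 : m = 16 := by omega
            rw [h4] at hmp
            norm_num at hmp
        · rintro ⟨rfl, rfl⟩
          have hd1 : d = 1 := by rw [hdd]; decide
          rw [hd1, one_mul] at hc
          have h1 : Nat.Prime (v * m) := by rw [← hc]; norm_num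
          exact Nat.not_prime_mul hv.one_lt.ne' hmp.one_lt.ne' h1
      rcases nonprim (by omega) hmp (by omega) ((dvd_mul_left _ _).trans hm) hme with h | h
      · exact num_core hp.out f.pos hqf he4 hex (one_dvd _) hgsle
          (j := 1) (Or.inl ⟨rfl, Nat.le_of_dvd (by omega) h⟩)
      · exact num_core hp.out f.pos hqf he4 hex (one_dvd _) hgsle (Or.inr h)

/-- **The primes of weight `n`.** -/
theorem three_sing {p v : ℕ} [hp : Fact p.Prime] [CharP F p] (hn : 3 ≤ n) (hv : v.Prime)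
    (h32 : ¬ (n = 3 ∧ (Fintype.card F = 2 ∨ Fintype.card F = 4))) (h42 : ¬ (n = 4 ∧ Fintype.card F = 2))
    (h33 : ¬ (n = 3 ∧ Fintype.card F = 3 ∧ v = 13))
    (hvp : v ≠ p) (hvq : ¬ v ∣ Fintype.card F - 1)
    (he : orderOf ((Fintype.card F : ℕ) : ZMod v) = n) :
    ¬ SCC (Matrix.ProjectiveSpecialLinearGroup (Fin n) F) v := by
  obtain ⟨f, -, hqf⟩ := FiniteField.card F p
  have hq1 : 1 < Fintype.card F := Fintype.one_lt_card
  have hvd : v ∣ Fintype.card F ^ n - 1 := by
    have h1 := dvd_pow_ee (q := Fintype.card F) (r := v) Fintype.card_pos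
    rwa [ee, he] at h1
  have hgq : Nat.gcd n (Fintype.card F - 1) ∣ Fintype.card F - 1 := Nat.gcd_dvd_right _ _
  have hz := exists_sing (F := F) (n := n) (by omega)
  obtain ⟨q, hq⟩ : ∃ q, q = Fintype.card F := ⟨_, rfl⟩
  rw [← hq] at hq1 hvd hgq hz hqf hvq h42 h33 h32 he
  obtain ⟨g, hg⟩ : ∃ g, g = Nat.gcd (gs q n) (Nat.gcd n (q - 1)) := ⟨_, rfl⟩
  rw [← hg] at hz
  have hg0 : 0 < g := by
    rw [hg]
    exact Nat.gcd_pos_of_pos_right _ (Nat.gcd_pos_of_pos_left _ (by omega))
  have hgd : g ∣ Nat.gcd n (q - 1) := by rw [hg]; exact Nat.gcd_dvd_right _ _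
  have hvg : v ∣ gs q n := by
    rw [← gs_mul q n hq1.le] at hvd
    exact (hv.dvd_mul.1 hvd).resolve_right hvq
  obtain ⟨c, hc⟩ : g ∣ gs q n := by rw [hg]; exact Nat.gcd_dvd_left _ _
  rw [hc, Nat.mul_div_cancel_left c hg0] at hz
  have hvc : v ∣ c := by
    rw [hc] at hvg
    exact (hv.dvd_mul.1 hvg).resolve_left fun h => hvq ((h.trans hgd).trans (Nat.gcd_dvd_right _ _))
  obtain ⟨m, rfl⟩ := hvc
  have hgs := gs_mul q n hq1.le
  have hpos := gs_pos q (n := n) (by omega)
  have hm0 : m ≠ 0 := by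
    rintro rfl
    rw [mul_zero, mul_zero] at hc
    omega
  have hm : v * m ∣ q ^ n - 1 := by
    rw [← hgs, hc]
    exact (dvd_mul_left _ _).mul_right _
  have x33 : ¬ (n = 3 ∧ q = 3) := by
    rintro ⟨rfl, rfl⟩
    have h1 : v ∣ 13 := by
      rw [show (13 : ℕ) = gs 3 3 by decide]
      exact hvg
    exact h33 ⟨rfl, rfl, (Nat.prime_dvd_prime_iff_eq hv (by norm_num)).1 h1⟩
  -- `J`
  have hJ : 4 * (n * (f : ℕ)) + 1 < v * m := by
    have h5 := num_J (n := n) (g := g) hp.out f.pos hqf (by omega) (by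
      simp only [Finset.mem_insert, Finset.mem_singleton, Prod.mk.injEq, not_or]
      tauto) hgd
    rw [hc, mul_comm g] at h5
    exact Nat.lt_of_mul_lt_mul_right h5
  rw [hq] at hvq he
  refine three_core (p := p) (f := f) (m := m) (e := n) (by omega) (by rw [← hq]; exact hqf) f.pos hv hvp hvq he
    (by omega) (by omega) (by omega) hz hm0 (by rw [← hq]; exact hm) ?_ (fun _ _ => hJ) ?_
  · rintro rfl
    rw [mul_one] at hJ
    exact hJ
  · intro hmp hme
    rw [← hq] at hme hvq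
    have hmg : m ∣ gs q n := by
      rw [hc]
      exact (dvd_mul_left _ _).mul_left _
    rcases Nat.lt_or_ge n 4 with he4 | he4
    · -- `n = 3`
      exfalso
      obtain rfl : n = 3 := by omega
      have hmq : m ∣ q - 1 := by
        rcases nonprim (by omega) hmp (by norm_num) ((dvd_mul_left _ _).trans hm) hme with h | ⟨h1, h2, -⟩
        · exact h
        · omega
      have h1 := (Nat.prime_dvd_prime_iff_eq hmp Nat.prime_three).1 (gs_mod_sub (by omega) hmq hmg)
      subst h1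
      have h2 : 3 ∣ g := by
        rw [hg]
        exact Nat.dvd_gcd hmg (Nat.dvd_gcd dvd_rfl hmq)
      obtain ⟨k, hk⟩ := h2
      apply nine_not_dvd q
      rw [hc, hk]
      exact ⟨k * v, by ring⟩
    · have hgsle : gs q n ≤ v * m * g := by rw [hc, mul_comm g]
      have hex : (n, q) ∉ ({(4, 2), (4, 3), (5, 2)} : Finset (ℕ × ℕ)) := by
        simp only [Finset.mem_insert, Finset.mem_singleton, Prod.mk.injEq, not_or]
        refine ⟨h42, ?_, ?_⟩
        · rintro ⟨rfl, rfl⟩
          have hg2 : g = 2 := by rw [hg]; decide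
          have hgs4 : gs 3 4 = 40 := by decide
          rw [hg2, hgs4] at hc
          have h1 : v ∣ 4 * 5 := ⟨m, by omega⟩
          rcases hv.dvd_mul.1 h1 with h2 | h2
          · exact hvq (hv.dvd_of_dvd_pow (show v ∣ 2 ^ 2 from h2))
          · have h3 := (Nat.prime_dvd_prime_iff_eq hv (by norm_num)).1 h2
            subst h3
            have h4 : m = 4 := by omega
            rw [h4] at hmp
            norm_num at hmp
        · rintro ⟨rfl, rfl⟩
          have hg1 : g = 1 := by rw [hg]; decide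
          have hgs5 : gs 2 5 = 31 := by decide
          rw [hg1, one_mul, hgs5] at hc
          have h1 : Nat.Prime (v * m) := by rw [← hc]; norm_num
          exact Nat.not_prime_mul hv.one_lt.ne' hmp.one_lt.ne' h1
      rcases nonprim (by omega) hmp (by omega) ((dvd_mul_left _ _).trans hm) hme with h | h
      · exact num_core hp.out f.pos hqf he4 hex hgd hgsle
          (j := 1) (Or.inl ⟨rfl, Nat.le_of_dvd (by omega) h⟩)
      · exact num_core hp.out f.pos hqf he4 hex hgd hgsle (Or.inr h)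

/-- **Three classes for every prime.** -/
theorem not_SCC_psl (hn : 3 ≤ n) (hex : (n, Fintype.card F) ∉ ({(3, 2), (3, 4), (4, 2)} : Finset (ℕ × ℕ)))
    {v : ℕ} (hv : v.Prime) (hd : v ∣ Nat.card (Matrix.ProjectiveSpecialLinearGroup (Fin n) F))
    (hx : (n, Fintype.card F, v) ∉ ({(3, 3, 13), (4, 3, 13), (5, 2, 5), (3, 7, 3)} : Finset (ℕ × ℕ × ℕ))) :
    ¬ SCC (Matrix.ProjectiveSpecialLinearGroup (Fin n) F) v := by
  simp only [Finset.mem_insert, Finset.mem_singleton, Prod.mk.injEq, not_or] at hex hx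
  obtain ⟨y1, y2, y3⟩ := hex
  obtain ⟨z1, z2, z3, z4⟩ := hx
  obtain ⟨p, hpc⟩ := CharP.exists F
  have hp : Fact p.Prime := ⟨CharP.char_is_prime F p⟩
  obtain ⟨m, -, hm⟩ := FiniteField.card F p
  have hq1 : 1 < Fintype.card F := Fintype.one_lt_card
  by_cases hvp : v = p
  · subst hvp
    rcases Nat.lt_or_ge n 4 with h | h
    · obtain rfl : n = 3 := by omega
      exact three_char3 v (fun h => y1 ⟨rfl, h⟩) (fun h => y2 ⟨rfl, h⟩)
    · exact three_char v h y3
  have hvF : ¬ v ∣ Fintype.card F := by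
    rw [hm]
    intro h
    exact hvp ((Nat.prime_dvd_prime_iff_eq hv hp.out).1 (hv.dvd_of_dvd_pow h))
  have hle := ee_le hv hvF hd
  by_cases hvq : v ∣ Fintype.card F - 1
  · rcases Nat.lt_or_ge n 4 with h | h
    · obtain rfl : n = 3 := by omega
      exact three_q1 hv (fun h => y2 ⟨rfl, h⟩) (fun h => z4 ⟨rfl, h.1, h.2⟩) hvq
    · exact three_one (p := p) hv h hvq hd
  have he1 : ee (Fintype.card F) v ≠ 1 := fun h => hvq ((ee_eq_one_iff hq1.le).1 h)
  have he0 := ee_pos hv hvF
  rcases Nat.lt_or_ge (ee (Fintype.card F) v + 1) n with h | h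
  · exact three_small (p := p) hv hvp hvq y3 hd (by omega)
  by_cases h2 : n = 3 ∧ ee (Fintype.card F) v = 2
  · obtain ⟨rfl, h2⟩ := h2
    exact three_e2 hv (fun h => y1 ⟨rfl, h⟩) (fun h => y2 ⟨rfl, h⟩) hvq h2
  have h1 : ee (Fintype.card F) v = n - 1 ∨ ee (Fintype.card F) v = n := by omega
  rcases h1 with h1 | h1
  · exact three_tor (p := p) (by omega) hv y3 z2 z3 hvp hvq h1
  · exact three_sing (p := p) hn hv (fun h => h.2.elim (fun h' => y1 ⟨h.1, h'⟩) (fun h' => y2 ⟨h.1, h'⟩)) y3 z1 hvp hvq h1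

end Cfsg.Agent.H205.DerPsl
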