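import Cfsg.Agent.H205.Der.Struct
import Cfsg.Agent.H205.Der.PslF
import Cfsg.Agent.H834.Sax.Nine
import Cfsg.Agent.H809.SelfCentPSU
import Cfsg.Agent.H503.El.Base

/-!
# `L3(7)` and `L4(3)`: subgroups missing `3`, `13` (helper205, S3502)
-/

set_option autoImplicit false

namespace Cfsg.Agent.H205.DerPsl

open Subgroup Matrix Cfsg Cfsg.Agent.H39.DerPsl Cfsg.Agent.H439.Der Cfsg.Agent.OrdDiv Cfsg.Agent.H938.Sax

variable {F : Type} [Field F] [Fintype F]

theorem card_l37 (hF : Fintype.card F = 7) : Nat.card (Matrix.ProjectiveSpecialLinearGroup (Fin 3) F) = 1876896 := by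
  have h2 := Cfsg.Agent.S0243.result (F := F) hF 3 (by norm_num)
  have e1 : ∏ i : Fin 3, (7 ^ 3 - 7 ^ (i : ℕ)) = 33784128 := by rfl
  rw [e1] at h2
  norm_num at h2
  omega

theorem card_l43 (hF : Fintype.card F = 3) : Nat.card (Matrix.ProjectiveSpecialLinearGroup (Fin 4) F) = 6065280 := by
  have h2 := Cfsg.Agent.S0243.result (F := F) hF 4 (by norm_num)
  have e1 : ∏ i : Fin 4, (3 ^ 4 - 3 ^ (i : ℕ)) = 24261120 := by rfl
  rw [e1] at h2
  norm_num at h2
  omega

/-- an order divisible by a prime which is not missing -/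
theorem three_of_gap {n : ℕ} (hn : 3 ≤ n) (hex : (n, Fintype.card F) ∉ ({(3, 2), (3, 4), (4, 2)} : Finset (ℕ × ℕ)))
    {v : ℕ} (hv : v.Prime) (hd : v ∣ Nat.card (Matrix.ProjectiveSpecialLinearGroup (Fin n) F))
    (hx : (n, Fintype.card F, v) ∉ ({(3, 3, 13), (4, 3, 13), (5, 2, 5), (3, 7, 3)} : Finset (ℕ × ℕ × ℕ)))
    (M : Subgroup (Matrix.ProjectiveSpecialLinearGroup (Fin n) F)) (h : ¬ v ∣ Nat.card M) :
    Three (Matrix.ProjectiveSpecialLinearGroup (Fin n) F) M := by
  obtain ⟨x, hx'⟩ := hasOrd_prime hv hd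
  exact Three.of_not_dvd h (not_SCC_psl hn hex hv hd hx) ⟨x, by rw [hx']⟩

theorem ord_cast {q v n : ℕ} (h1 : ((q : ℕ) : ZMod v) ^ n = 1) (h2 : ∀ m, m < n → 0 < m → ((q : ℕ) : ZMod v) ^ m ≠ 1)
    (hn : 0 < n) : orderOf ((q : ℕ) : ZMod v) = n := (orderOf_eq_iff hn).2 ⟨h1, h2⟩

variable (OT : OrderTable.{0}) (hS : ∀ (X : Type) [Group X] [Finite X] [IsSimpleGroup X], Cfsg.IsKnownSimple' X)

include OT hS

/-- **`L3(7)`, `v = 3`** -/
theorem three_l37 (hF : Fintype.card F = 7) (M : Subgroup (Matrix.ProjectiveSpecialLinearGroup (Fin 3) F))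
    (h3 : ¬ 3 ∣ Nat.card M) : Three (Matrix.ProjectiveSpecialLinearGroup (Fin 3) F) M := by
  have hcard := card_l37 hF
  have hex : (3, Fintype.card F) ∉ ({(3, 2), (3, 4), (4, 2)} : Finset (ℕ × ℕ)) := by rw [hF]; decide
  by_cases h19 : 19 ∣ Nat.card M
  swap
  · exact three_of_gap (v := 19) le_rfl hex (by norm_num) (by rw [hcard]; norm_num) (by rw [hF]; decide) M h19
  by_cases h7 : 7 ∣ Nat.card M
  swap
  · exact three_of_gap (v := 7) le_rfl hex (by norm_num) (by rw [hcard]; norm_num) (by rw [hF]; decide) M h7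
  exfalso
  have h7p : Fact (Nat.Prime 7) := ⟨by norm_num⟩
  have hch : CharP F 7 := by
    obtain ⟨p, hp⟩ := CharP.exists F
    have hpp := CharP.char_is_prime F p
    obtain ⟨k, -, hk⟩ := FiniteField.card F p
    rw [hF] at hk
    have : p ∣ 7 := by rw [hk]; exact dvd_pow_self p k.pos.ne'
    have := (Nat.prime_dvd_prime_iff_eq hpp (by norm_num)).1 this
    subst this
    exact hp
  have hMT : Nat.card M ∣ 1876896 := by rw [← hcard]; exact Subgroup.card_subgroup_dvd_card M
  have hM2 : Nat.card M ∣ 208544 := by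
    have h1 : Nat.Coprime (Nat.card M) 9 :=
      (((Nat.Prime.coprime_iff_not_dvd Nat.prime_three).2 h3).symm).pow_right 2
    exact h1.dvd_of_dvd_mul_left (show Nat.card M ∣ 9 * 208544 from hMT)
  rcases struct_psl (p := 7) (v := 19) (n := 3) (by norm_num) (by norm_num) (by norm_num)
    (by rw [hF]; exact ord_cast (by decide) (by intro m hm hm0; interval_cases m <;> decide) (by norm_num))
    (by rw [hF]; decide) (by rw [hcard]; norm_num) (by norm_num) M h19 with h | ⟨K, _, _, a, c, hK, hna, hvK, hM, -⟩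
  · exact h h7
  · have h1 : Nat.card K ∣ 208544 := by
      refine dvd_trans ?_ hM2
      rw [hM]
      exact (dvd_mul_left _ _).mul_right _
    have h2 := Cfsg.Agent.H970.StabNum.mem_tbl OT hS (l := [(2, 5), (7, 3), (19, 1)]) (N := 208544) (by decide +kernel)
      (tbl := []) (by decide +kernel) K hK hna h1
    exact absurd h2 (List.not_mem_nil)

omit [Field F] [Fintype F] in
/-- simple groups of order `25920` have no elements of order ten -/
theorem no_ten {K : Type} [Group K] [Finite K] (hK : IsSimpleGroup K) (hna : ¬ ∀ x y : K, x * y = y * x)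
    (hc : Nat.card K = 25920) (z : K) : ¬ 10 ∣ orderOf z := by
  have h5p : Fact (Nat.Prime 5) := ⟨by norm_num⟩
  obtain ⟨g, hg, hr⟩ := exists_real_filter OT (hS K) hna (l := [(2, 6), (3, 4), (5, 1)])
    (N := 25920) (by decide +kernel) (by rw [hc]) (fun o => Nat.beq o 25920) (by rw [hc]; rfl)
  rw [show ((cands [(2, 6), (3, 4), (5, 1)] 25920).filter fun g => Nat.beq (ordN g) 25920) =
    [.psp 2 3, .psu 4 2] by decide +kernel] at hg
  have hself : ∃ R : Subgroup K, Nat.card R = 5 ∧ centralizer (R : Set K) = R := by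
    simp only [List.mem_cons, List.not_mem_nil, or_false] at hg
    rcases hg with rfl | rfl
    · obtain ⟨F, _, _, hF, ⟨e⟩⟩ := hr
      exact H732.SelfCent.selfcent_congr e.symm (H809.SelfCent.psp_four_three hF)
    · obtain ⟨F, _, _, hF, ⟨e⟩⟩ := hr
      exact H732.SelfCent.selfcent_congr e.symm (H809.SelfCent.psu_selfcent 4 2 5 (by decide) F hF)
  intro h
  have h25 : ¬ 5 ^ 2 ∣ Nat.card K := by rw [hc]; norm_num
  -- an element of order ten
  have h0 : orderOf z ≠ 0 := (orderOf_pos z).ne'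
  obtain ⟨y, hy⟩ : ∃ y : K, orderOf y = 10 := ⟨_, orderOf_pow_orderOf_div h0 h⟩
  have hy2 : orderOf (y ^ 2) = 5 := by rw [orderOf_pow' y (by norm_num), hy]; decide
  have hP : IsPGroup 5 (zpowers (y ^ 2)) := IsPGroup.of_card (n := 1) (by rw [Nat.card_zpowers, hy2, pow_one])
  obtain ⟨S, hPS⟩ := hP.exists_le_sylow
  have hcS := H503.El.cent_of_ex h25 hself S
  have hScard : Nat.card S ∣ 5 := by
    obtain ⟨k, hk⟩ := IsPGroup.iff_card.1 S.2
    have h5 : Nat.card S ∣ Nat.card K := Subgroup.card_subgroup_dvd_card _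
    rw [hk] at h5 ⊢
    have h6 : k < 2 := by
      by_contra hcon
      push Not at hcon
      exact h25 ((pow_dvd_pow 5 hcon).trans h5)
    exact (pow_dvd_pow 5 (show k ≤ 1 by omega)).trans (by norm_num)
  have hSe : (S : Subgroup K) = zpowers (y ^ 2) := by
    refine (Subgroup.eq_of_le_of_card_ge hPS ?_).symm
    rw [Nat.card_zpowers, hy2]
    exact Nat.le_of_dvd (by norm_num) hScard
  have hyc : y ∈ centralizer ((S : Subgroup K) : Set K) := by
    rw [Subgroup.mem_centralizer_iff, hSe]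
    intro w hw
    obtain ⟨k, rfl⟩ := mem_zpowers_iff.1 hw
    exact (((Commute.refl y).pow_left 2).zpow_left k).eq
  rw [hcS] at hyc
  have h7 : orderOf (⟨y, hyc⟩ : (S : Subgroup K)) ∣ Nat.card S := orderOf_dvd_natCard _
  rw [Subgroup.orderOf_mk, hy] at h7
  exact absurd (h7.trans hScard) (by norm_num)

omit OT hS in
theorem char_three (hF : Fintype.card F = 3) : CharP F 3 := by
  obtain ⟨p, hp⟩ := CharP.exists F
  have hpp := CharP.char_is_prime F p
  obtain ⟨k, -, hk⟩ := FiniteField.card F p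
  rw [hF] at hk
  have : p ∣ 3 := by rw [hk]; exact dvd_pow_self p k.pos.ne'
  have := (Nat.prime_dvd_prime_iff_eq hpp (by norm_num)).1 this
  subst this
  exact hp

omit OT hS [Fintype F] in
theorem jfour_pow (k : ℕ) : (!![1, 1, 0, 0; 0, 1, 1, 0; 0, 0, 1, 1; 0, 0, 0, 1] : Matrix (Fin 4) (Fin 4) F) ^ k =
    !![1, (k : F), (Nat.choose k 2 : F), (Nat.choose k 3 : F); 0, 1, (k : F), (Nat.choose k 2 : F); 0, 0, 1, (k : F);
      0, 0, 0, 1] := by
  induction k with
  | zero => 
    ext i j
    fin_cases i <;> fin_cases j <;> simp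
  | succ k ih =>
    rw [pow_succ, ih]
    ext i j
    fin_cases i <;> fin_cases j <;> simp [Matrix.mul_apply, Fin.sum_univ_four, Nat.choose_succ_succ] <;> ring

omit OT hS in
theorem hasOrd_nine (hF : Fintype.card F = 3) : HasOrd (Matrix.ProjectiveSpecialLinearGroup (Fin 4) F) 9 := by
  have hch := char_three hF
  refine H72.AdjPSL.exists_order (!![1, 1, 0, 0; 0, 1, 1, 0; 0, 0, 1, 1; 0, 0, 0, 1] : Matrix (Fin 4) (Fin 4) F) ?_
    (N := 9) ?_ _ dvd_rfl
  · rw [Matrix.det_succ_row_zero]
    simp [Fin.sum_univ_four, Matrix.det_fin_three, Fin.succAbove]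
  · intro k c hk
    rw [jfour_pow] at hk
    have h1 := congrFun (congrFun hk 0) 1
    have h2 := congrFun (congrFun hk 0) 3
    simp at h1 h2
    have h3 : 3 ∣ k := (CharP.cast_eq_zero_iff F 3 k).1 h1
    have h4 : 3 ∣ k.choose 3 := (CharP.cast_eq_zero_iff F 3 _).1 h2
    obtain ⟨j, rfl⟩ := h3
    have h5 : (3 * j).choose 3 * 2 = j * ((3 * j - 1) * (3 * j - 2)) := by
      rcases Nat.eq_zero_or_pos j with rfl | hj
      · simp
      have h6 := Nat.choose_mul_factorial_mul_factorial (n := 3 * j) (k := 3) (by omega)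
      have h7 := Nat.descFactorial_eq_factorial_mul_choose (3 * j) 3
      have h8 : (3 * j).descFactorial 3 = (3 * j) * (3 * j - 1) * (3 * j - 2) := by
        simp [Nat.descFactorial]
        ring
      rw [h8] at h7
      have h9 : Nat.factorial 3 = 6 := by decide
      rw [h9] at h7
      have h10 : 3 * ((3 * j).choose 3 * 2) = 3 * (j * ((3 * j - 1) * (3 * j - 2))) := by
        calc 3 * ((3 * j).choose 3 * 2) = 6 * (3 * j).choose 3 := by ring
          _ = (3 * j) * (3 * j - 1) * (3 * j - 2) := h7.symm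
          _ = _ := by ring
      exact Nat.eq_of_mul_eq_mul_left (by norm_num) h10
    rcases Nat.eq_zero_or_pos j with rfl | hj
    · simp
    have h6 : 3 ∣ j * ((3 * j - 1) * (3 * j - 2)) := by
      rw [← h5]
      exact h4.mul_right _
    have h7 : 3 ∣ j := by
      rcases Nat.prime_three.dvd_mul.1 h6 with h | h
      · exact h
      · rcases Nat.prime_three.dvd_mul.1 h with h | h
        · omega
        · omega
    obtain ⟨i, rfl⟩ := h7
    exact ⟨i, by ring⟩

/-- **`L4(3)`, `v = 13`** -/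
theorem three_l43 (hF : Fintype.card F = 3) (M : Subgroup (Matrix.ProjectiveSpecialLinearGroup (Fin 4) F))
    (h13 : ¬ 13 ∣ Nat.card M) : Three (Matrix.ProjectiveSpecialLinearGroup (Fin 4) F) M := by
  have hcard := card_l43 hF
  have hch := char_three hF
  have hex : (4, Fintype.card F) ∉ ({(3, 2), (3, 4), (4, 2)} : Finset (ℕ × ℕ)) := by rw [hF]; decide
  by_cases h5 : 5 ∣ Nat.card M
  swap
  · exact three_of_gap (v := 5) (by norm_num) hex (by norm_num) (by rw [hcard]; norm_num) (by rw [hF]; decide) M h5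
  by_cases h3 : 3 ∣ Nat.card M
  swap
  · exact three_of_gap (v := 3) (by norm_num) hex (by norm_num) (by rw [hcard]; norm_num) (by rw [hF]; decide) M h3
  have hSC : ¬ SC (Matrix.ProjectiveSpecialLinearGroup (Fin 4) F) 13 :=
    nsc_psl (by norm_num) hex 13 (by norm_num) (by rw [hcard]; norm_num)
  obtain ⟨z9, hz9⟩ := hasOrd_nine hF
  obtain ⟨z20, hz20⟩ : ∃ z : Matrix.ProjectiveSpecialLinearGroup (Fin 4) F, orderOf z = 20 := by
    obtain ⟨z, hz⟩ := exists_sing (F := F) (n := 4) (by norm_num)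
    refine ⟨z, ?_⟩
    rw [hz, hF]
    decide
  -- nine or twenty are missing
  have hfin : (∀ m ∈ M, orderOf m ≠ 9) ∨ (∀ m ∈ M, orderOf m ≠ 20) := by
    have h3p : Fact (Nat.Prime 3) := ⟨by norm_num⟩
    have hMT : Nat.card M ∣ 6065280 := by rw [← hcard]; exact Subgroup.card_subgroup_dvd_card M
    have hM2 : Nat.card M ∣ 466560 := by
      have h1 : Nat.Coprime (Nat.card M) 13 := ((Nat.Prime.coprime_iff_not_dvd (by norm_num)).2 h13).symm
      exact h1.dvd_of_dvd_mul_left (show Nat.card M ∣ 13 * 466560 from hMT)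
    rcases struct_psl (p := 3) (v := 5) (n := 4) (by norm_num) (by norm_num) (by norm_num)
      (by rw [hF]; exact ord_cast (by decide) (by intro m hm hm0; interval_cases m <;> decide) (by norm_num))
      (by rw [hF]; decide) (by rw [hcard]; norm_num) (by norm_num) M h5 with
      h | ⟨K, _, _, a, c, hK, hna, hvK, hM, hpa, hpc, htr, hto⟩
    · exact absurd h3 h
    · have h1 : Nat.card K ∣ 466560 := by
        refine dvd_trans ?_ hM2
        rw [hM]
        exact (dvd_mul_left _ _).mul_right _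
      have h2 := Cfsg.Agent.H970.StabNum.mem_tbl OT hS (l := [(2, 7), (3, 6), (5, 1)]) (N := 466560) (by decide +kernel)
        (tbl := [60, 360, 25920]) (by decide +kernel) K hK hna h1
      have hac : Nat.Coprime 9 a := ((Nat.Prime.coprime_iff_not_dvd Nat.prime_three).2 hpa).pow_left 2
      have hcc : Nat.Coprime 9 c := ((Nat.Prime.coprime_iff_not_dvd Nat.prime_three).2 hpc).pow_left 2
      have h9 : (¬ H58.Rec.HasOrd K 9) → ∀ m ∈ M, orderOf m ≠ 9 := by
        intro h m hm ho
        exact h (htr 9 hac hcc ⟨⟨m, hm⟩, by rw [Subgroup.orderOf_mk]; exact ho⟩)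
      simp only [List.mem_cons, List.not_mem_nil, or_false] at h2
      rcases h2 with h2 | h2 | h2
      · left
        refine h9 ?_
        rintro ⟨z, hz⟩
        have h4 : orderOf z ∣ Nat.card K := orderOf_dvd_natCard z
        rw [hz, h2] at h4
        norm_num at h4
      · left
        exact h9 (H834.Sax.no_nine_360 OT hS hK hna h2)
      · right
        intro m hm ho
        obtain ⟨z, hz⟩ := hto ⟨m, hm⟩
        rw [Subgroup.orderOf_mk, ho] at hz
        have h4 : a * c ∣ 18 := by
          rw [hM, h2] at hM2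
          have h5 : 25920 * (a * c) ∣ 25920 * 18 := by
            rw [show 25920 * (a * c) = a * 25920 * c by ring]
            exact hM2
          exact Nat.dvd_of_mul_dvd_mul_left (by norm_num) h5
        have h5 : a * c ∣ 2 := by
          have h6 : Nat.Coprime (a * c) 9 := (Nat.Coprime.mul_right hac hcc).symm
          exact h6.dvd_of_dvd_mul_left (show a * c ∣ 9 * 2 from h4)
        apply no_ten OT hS hK hna h2 z
        have h6 : 20 ∣ orderOf z * 2 := hz.trans (Nat.mul_dvd_mul_left _ h5)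
        omega
  rcases hfin with h | h
  · exact Three.of_not_SC_order h13 hSC hz9 h (by norm_num)
  · exact Three.of_not_SC_order h13 hSC hz20 h (by norm_num)

end Cfsg.Agent.H205.DerPsl
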