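import Cfsg.Agent.H205.Der.L43

/-!
# `L5(2)`: subgroups missing `5` (helper205, S3502)
-/

set_option autoImplicit false

namespace Cfsg.Agent.H205.DerPsl

open Subgroup Matrix Cfsg Cfsg.Agent.H39.DerPsl Cfsg.Agent.H439.Der Cfsg.Agent.OrdDiv Cfsg.Agent.H938.Sax

variable {F : Type} [Field F] [Fintype F]

theorem card_l52 (hF : Fintype.card F = 2) : Nat.card (Matrix.ProjectiveSpecialLinearGroup (Fin 5) F) = 9999360 := by
  have h2 := Cfsg.Agent.S0243.result (F := F) hF 5 (by norm_num)
  have e1 : ∏ i : Fin 5, (2 ^ 5 - 2 ^ (i : ℕ)) = 9999360 := by rfl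
  rw [e1] at h2
  norm_num at h2
  omega

variable (OT : OrderTable.{0}) (hS : ∀ (X : Type) [Group X] [Finite X] [IsSimpleGroup X], Cfsg.IsKnownSimple' X)

include OT hS

set_option maxRecDepth 100000 in
/-- **`L5(2)`, `v = 5`** -/
theorem three_l52 (hF : Fintype.card F = 2) (M : Subgroup (Matrix.ProjectiveSpecialLinearGroup (Fin 5) F))
    (h5 : ¬ 5 ∣ Nat.card M) : Three (Matrix.ProjectiveSpecialLinearGroup (Fin 5) F) M := by
  have hcard := card_l52 hF
  have hfin : Finite (Matrix.ProjectiveSpecialLinearGroup (Fin 5) F) := finite_psl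
  have hex : (5, Fintype.card F) ∉ ({(3, 2), (3, 4), (4, 2)} : Finset (ℕ × ℕ)) := by rw [hF]; decide
  by_cases h31 : 31 ∣ Nat.card M
  swap
  · exact three_of_gap (v := 31) (by norm_num) hex (by norm_num) (by rw [hcard]; norm_num) (by rw [hF]; decide) M h31
  have hsimple : IsSimpleGroup (Matrix.ProjectiveSpecialLinearGroup (Fin 5) F) := S0249.result 5 (by norm_num)
  have hD : H970.StabNum.Data (Matrix.ProjectiveSpecialLinearGroup (Fin 5) F) [(31, 1, 5)] [2, 3, 5, 7]
      [60, 168, 360, 504, 2520, 14880, 20160, 9999360] := by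
    refine H503.El.mk_data OT hS (l := [(2, 10), (3, 2), (5, 1), (7, 1), (31, 1)]) hcard (by decide +kernel) ?_
    intro x hx
    rw [List.mem_singleton] at hx
    subst hx
    exact H503.El.entry_of_ex (by norm_num) hcard (by norm_num) (by norm_num) (by decide +kernel)
      (H809.SelfCent.psl_selfcent 5 2 31 (by decide) F hF)
  have h1 := H251.Small.mem_surv hD (l := [(2, 10), (3, 2), (5, 1), (7, 1), (31, 1)]) (prs := [31])
    (by rw [hcard]; decide +kernel) M (fun r hr => by rw [List.mem_singleton] at hr; rw [hr]; exact h31)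
  have h2 : (H251.Small.surv [(31, 1, 5)] [2, 3, 5, 7] [60, 168, 360, 504, 2520, 14880, 20160, 9999360]
      [(2, 10), (3, 2), (5, 1), (7, 1), (31, 1)] [31]).all (fun h => Nat.beq (h % 5) 0 || !(Nat.beq (h % 3) 0)) = true := by
    decide +kernel
  rw [List.all_eq_true] at h2
  have h3 := h2 _ h1
  rw [Bool.or_eq_true, Nat.beq_eq, Bool.not_eq_true'] at h3
  rcases h3 with h3 | h3
  · exact absurd (Nat.dvd_of_mod_eq_zero h3) h5
  · refine three_of_gap (v := 3) (by norm_num) hex (by norm_num) (by rw [hcard]; norm_num) (by rw [hF]; decide) M ?_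
    intro h
    rw [Nat.mod_eq_zero_of_dvd h] at h3
    exact absurd h3 (by decide)

end Cfsg.Agent.H205.DerPsl
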