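import Cfsg.Agent.H205.Der.L43
import Cfsg.Agent.H834.Sax.Lin

/-!
# `L6(2)` (helper205, S3502)
-/

set_option autoImplicit false

namespace Cfsg.Agent.H205.DerPsl

open Subgroup Matrix Polynomial Cfsg Cfsg.Agent.H39.DerPsl Cfsg.Agent.H439.Der Cfsg.Agent.OrdDiv Cfsg.Agent.H938.Sax
  Cfsg.Agent.ClassicalGeometry.AutPSL.Root Cfsg.Agent.ClassicalGeometry.AutPSL.Auto Cfsg.Agent.H199.PslAut

section full

variable {F : Type*} [Field F] [Fintype F] {n : ℕ}

/-- the exponent, all eigenvalues conjugate -/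
theorem exp_of_aut_full (hn : 2 ≤ n) {p : ℕ} [hp : Fact p.Prime] [CharP F p]
    {N : ℕ} (hN : 1 < N) (hco : Nat.Coprime N (Fintype.card F - 1))
    {x : Matrix.SpecialLinearGroup (Fin n) F} (hx : orderOf x = N)
    {l : AlgebraicClosure F} (hl : l ∈ Ev (AlgebraicClosure F) (x : Matrix (Fin n) (Fin n) F)) (hol : orderOf l = N)
    (hfull : ∀ μ ∈ Ev (AlgebraicClosure F) (x : Matrix (Fin n) (Fin n) F), ∃ i : ℕ, μ = l ^ (Fintype.card F ^ i))
    {k : ℕ} (φ : MulAut (Matrix.ProjectiveSpecialLinearGroup (Fin n) F))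
    (hφ : φ (pr x) = pr x ^ k) :
    ∃ m : ℕ, (k : ZMod N) = (p : ZMod N) ^ m ∨ (k : ZMod N) = - (p : ZMod N) ^ m := by
  have hN0 : 0 < N := by omega
  let K := AlgebraicClosure F
  have hcK : CharP K p := charP_of_injective_algebraMap (algebraMap F K).injective p
  obtain ⟨f, -, hqf⟩ := FiniteField.card F p
  -- the automorphisms
  have main : ∀ (g : GL (Fin n) F) (σ : F ≃+* F) (y : Matrix.SpecialLinearGroup (Fin n) F), y ^ N = 1 →
      Psi n F g (phi n F σ (pr y)) = pr x ^ k →
      ∃ j : ℕ, ∃ μ ∈ Ev K (y : Matrix (Fin n) (Fin n) F), μ ^ p ^ j = l ^ k := by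
    intro g σ y hy h
    rw [phi_pr, Psi_pr, ← map_pow] at h
    have h1 : cj g (fld σ y) = x ^ k := by
      refine eq_of_pr_eq (by omega) hco ?_ ?_ h
      · rw [← map_pow, ← map_pow, hy, map_one, map_one]
      · rw [← pow_mul, mul_comm, pow_mul, ← hx, pow_orderOf_eq_one, one_pow]
    obtain ⟨j, hj⟩ := exists_frob (p := p) σ
    have h2 : l ^ k ∈ Ev K ((y : Matrix (Fin n) (Fin n) F).map σ) := by
      have h3 := ev_pow hl k
      have h4 : (x : Matrix (Fin n) (Fin n) F) ^ k = (g : Matrix (Fin n) (Fin n) F) *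
          (y : Matrix (Fin n) (Fin n) F).map σ * ((g⁻¹ : GL (Fin n) F) : Matrix (Fin n) (Fin n) F) := by
        rw [← Matrix.SpecialLinearGroup.coe_pow, ← h1]
        rfl
      rw [h4, ev_conj] at h3
      exact h3
    obtain ⟨μ, hμ, hμ2⟩ := ev_map (K := K) (σ := σ) (τ := iterateFrobenius K p j)
      (fun a => by rw [iterateFrobenius_def, hj, map_pow]) (bijective_iterateFrobenius (R := K) (p := p) (n := j)).2 h2
    exact ⟨j, μ, hμ, by rw [← hμ2, iterateFrobenius_def]⟩
  have hxg : x ^ N = 1 := by rw [← hx, pow_orderOf_eq_one]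
  rcases exists_form hn φ with ⟨g, σ, rfl⟩ | ⟨-, g, σ, rfl⟩
  · obtain ⟨j, μ, hμ, h⟩ := main g σ x hxg hφ
    obtain ⟨i, rfl⟩ := hfull μ hμ
    rw [← pow_mul, pow_eq_iff hN0 hol, hqf] at h
    refine ⟨f * i + j, Or.inl ?_⟩
    rw [← h]
    push_cast
    rw [← pow_mul, ← pow_add]
  · obtain ⟨j, μ, hμ, h⟩ := main g σ (itr x) (by rw [← map_pow, hxg, map_one]) hφ
    have h1 : ((itr x : Matrix.SpecialLinearGroup (Fin n) F) : Matrix (Fin n) (Fin n) F) =
        ((x⁻¹ : Matrix.SpecialLinearGroup (Fin n) F) : Matrix (Fin n) (Fin n) F)ᵀ := rfl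
    rw [h1, ev_transpose] at hμ
    have hμ' := ev_inv hμ
    have hl0 : l ≠ 0 := by
      rintro rfl
      have h1 : (0 : K) ^ N = 1 := by rw [← hol, pow_orderOf_eq_one]
      rw [zero_pow hN0.ne'] at h1
      exact zero_ne_one h1
    obtain ⟨i, hi⟩ := hfull _ hμ'
    have h3 : l ^ (k + Fintype.card F ^ i * p ^ j) = l ^ 0 := by
      rw [pow_zero, pow_add, ← h, pow_mul, ← hi, inv_pow, mul_inv_cancel₀]
      exact pow_ne_zero _ (by rintro rfl; rw [_root_.inv_zero] at hi; exact pow_ne_zero _ hl0 hi.symm)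
    rw [pow_eq_iff hN0 hol, hqf] at h3
    refine ⟨f * i + j, Or.inr ?_⟩
    push_cast at h3
    rw [← pow_mul, ← pow_add] at h3
    exact eq_neg_of_add_eq_zero_left h3

/-- an eigenvalue of large order gives all eigenvalues -/
theorem ev_full {x : Matrix (Fin n) (Fin n) F} {l : AlgebraicClosure F} (hl : l ∈ Ev (AlgebraicClosure F) x)
    {o : ℕ} (ho : o ∣ orderOf l) (h0 : 0 < orderOf l) (hq : orderOf ((Fintype.card F : ℕ) : ZMod o) = n) :
    ∀ μ ∈ Ev (AlgebraicClosure F) x, ∃ i : ℕ, μ = l ^ (Fintype.card F ^ i) := by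
  classical
  intro μ hμ
  set q := Fintype.card F with hqd
  by_contra hcon
  push Not at hcon
  have hpow : ∀ i : ℕ, l ^ (q ^ i) ∈ Ev (AlgebraicClosure F) x := by
    intro i
    induction i with
    | zero => simpa using hl
    | succ i ih =>
      rw [pow_succ q i, pow_mul]
      exact ev_frob ih
  have hinj : ∀ i < n, ∀ j < n, l ^ (q ^ i) = l ^ (q ^ j) → i = j := by
    intro i hi j hj hij
    rw [pow_eq_iff h0 rfl] at hij
    have h4 : ((q ^ i : ℕ) : ZMod o) = ((q ^ j : ℕ) : ZMod o) := by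
      rw [ZMod.natCast_eq_natCast_iff] at hij ⊢
      exact hij.of_dvd ho
    push_cast at h4
    exact pow_injOn_Iio_orderOf (by rw [hq]; exact hi) (by rw [hq]; exact hj) h4
  let R : Finset (AlgebraicClosure F) := (x.charpoly.map (algebraMap F (AlgebraicClosure F))).roots.toFinset
  have hR : R.card ≤ n := by
    refine (Multiset.toFinset_card_le _).trans ((Polynomial.card_roots' _).trans ?_)
    rw [Polynomial.natDegree_map, Matrix.charpoly_natDegree_eq_dim, Fintype.card_fin]
  have hmem : ∀ ν : AlgebraicClosure F, ν ∈ Ev (AlgebraicClosure F) x → ν ∈ R := by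
    intro ν hν
    rw [Multiset.mem_toFinset, Polynomial.mem_roots ((Matrix.charpoly_monic x).map _).ne_zero,
      Polynomial.IsRoot.def, ← eval₂_eq_eval_map, ← aeval_def]
    exact hν
  have hsub : insert μ ((Finset.range n).image fun i => l ^ (q ^ i)) ⊆ R := by
    intro ν hν
    rcases Finset.mem_insert.1 hν with rfl | hν
    · exact hmem _ hμ
    · obtain ⟨i, -, rfl⟩ := Finset.mem_image.1 hν
      exact hmem _ (hpow i)
  have h1 := Finset.card_le_card hsub
  rw [Finset.card_insert_of_notMem, Finset.card_image_of_injOn, Finset.card_range] at h1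
  · omega
  · intro i hi j hj hij
    exact hinj i (by simpa using hi) j (by simpa using hj) hij
  · intro h
    obtain ⟨i, -, hi⟩ := Finset.mem_image.1 h
    exact hcon i hi.symm

end full

variable {F : Type} [Field F] [Fintype F]

theorem char_two (hF : Fintype.card F = 2) : CharP F 2 := by
  obtain ⟨p, hp⟩ := CharP.exists F
  have hpp := CharP.char_is_prime F p
  obtain ⟨k, -, hk⟩ := FiniteField.card F p
  rw [hF] at hk
  have : p ∣ 2 := by rw [hk]; exact dvd_pow_self p k.pos.ne'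
  have := (Nat.prime_dvd_prime_iff_eq hpp (by norm_num)).1 this
  subst this
  exact hp

/-- the elements of order `63` of `SL₆(2)` -/
theorem sixtythree (hF : Fintype.card F = 2) {x : Matrix.SpecialLinearGroup (Fin 6) F} (hx : orderOf x = 63)
    (φ : MulAut (Matrix.ProjectiveSpecialLinearGroup (Fin 6) F)) : φ (pr x) ≠ pr x ^ 5 := by
  have hch := char_two hF
  have h2p : Fact (Nat.Prime 2) := ⟨Nat.prime_two⟩
  let K := AlgebraicClosure F
  have hcK : CharP K 2 := charP_of_injective_algebraMap (algebraMap F K).injective 2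
  have hxN : (x : Matrix (Fin 6) (Fin 6) F) ^ 63 = 1 := by
    have h1 : x ^ 63 = 1 := by rw [← hx, pow_orderOf_eq_one]
    have := congrArg Subtype.val h1
    simpa using this
  have hord9 : orderOf ((Fintype.card F : ℕ) : ZMod 9) = 6 := by
    rw [hF]
    exact ord_cast (by decide) (by intro m hm hm0; interval_cases m <;> decide) (by norm_num)
  -- an eigenvalue of order divisible by `9`
  obtain ⟨l, hl, h9⟩ : ∃ l ∈ Ev K (x : Matrix (Fin 6) (Fin 6) F), 9 ∣ orderOf l := by
    by_contra hcon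
    push Not at hcon
    have h21 : (x : Matrix (Fin 6) (Fin 6) F) ^ 21 = 1 := by
      by_contra hne
      obtain ⟨ν, hν, hν1⟩ := exists_ev_ne_one (K := K) (p := 2) (v := 3) (by norm_num) (by rw [← pow_mul]; exact hxN) hne
      obtain ⟨μ, hμ, rfl⟩ := ev_pow_surj (by norm_num) hν
      apply hν1
      apply orderOf_dvd_iff_pow_eq_one.1
      have h1 := orderOf_ev_dvd hxN hμ
      have h2 := hcon μ hμ
      have h3 : orderOf μ ∈ Nat.divisors 63 := Nat.mem_divisors.2 ⟨h1, by norm_num⟩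
      rw [show Nat.divisors 63 = {1, 3, 7, 9, 21, 63} by decide] at h3
      simp only [Finset.mem_insert, Finset.mem_singleton] at h3
      rcases h3 with h3 | h3 | h3 | h3 | h3 | h3 <;> rw [h3] at h2 ⊢ <;> revert h2 <;> decide
    have h1 : x ^ 21 = 1 := by
      apply Subtype.ext
      simpa using h21
    have h2 := orderOf_dvd_of_pow_eq_one h1
    rw [hx] at h2
    norm_num at h2
  have hl0 : 0 < orderOf l := Nat.pos_of_dvd_of_pos (orderOf_ev_dvd hxN hl) (by norm_num)
  have hfull := ev_full hl h9 hl0 hord9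
  have hol : orderOf l = 63 := by
    have h1 := orderOf_ev_dvd hxN hl
    have h3 : (x : Matrix (Fin 6) (Fin 6) F) ^ orderOf l = 1 := by
      by_contra hne
      have h4 : ((x : Matrix (Fin 6) (Fin 6) F) ^ orderOf l) ^ 63 = 1 := by
        rw [← pow_mul, mul_comm, pow_mul, hxN, one_pow]
      obtain ⟨ν, hν, hν1⟩ := exists_ev_ne_one (K := K) (p := 2) (v := 63) (by norm_num) h4 hne
      obtain ⟨μ, hμ, rfl⟩ := ev_pow_surj hl0 hν
      apply hν1
      obtain ⟨i, rfl⟩ := hfull μ hμ
      rw [← pow_mul, mul_comm, pow_mul, pow_orderOf_eq_one, one_pow]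
    have h5 : x ^ orderOf l = 1 := by
      apply Subtype.ext
      simpa using h3
    have h6 := orderOf_dvd_of_pow_eq_one h5
    rw [hx] at h6
    exact Nat.dvd_antisymm h1 h6
  intro hφ
  obtain ⟨m, hm⟩ := exp_of_aut_full (p := 2) (by norm_num) (by norm_num) (by rw [hF]; norm_num) hx hl hol hfull (k := 5) φ hφ
  have h64 : ((2 : ℕ) : ZMod 63) ^ 6 = 1 := by decide
  rw [pow_mod h64 m] at hm
  have hlt : m % 6 < 6 := Nat.mod_lt _ (by norm_num)
  revert hm
  generalize m % 6 = r at hlt ⊢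
  interval_cases r <;> decide

variable (OT : OrderTable.{0}) (hS : ∀ (X : Type) [Group X] [Finite X] [IsSimpleGroup X], Cfsg.IsKnownSimple' X)

include OT hS

/-- `L₆(2)` -/
theorem three_l62 (hF : Fintype.card F = 2)
    (M : Subgroup (Matrix.ProjectiveSpecialLinearGroup (Fin 6) F)) (hM : M ≠ ⊤) :
    Three (Matrix.ProjectiveSpecialLinearGroup (Fin 6) F) M := by
  have hcard : Nat.card (Matrix.ProjectiveSpecialLinearGroup (Fin 6) F) = 20158709760 := H834.Sax.card_l62 hF
  have hfin : Finite (Matrix.ProjectiveSpecialLinearGroup (Fin 6) F) :=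
    Nat.finite_of_card_ne_zero (by rw [hcard]; norm_num)
  have hex : (6, Fintype.card F) ∉ ({(3, 2), (3, 4), (4, 2)} : Finset (ℕ × ℕ)) := by rw [hF]; decide
  have key : ∀ h : ℕ, Nat.card M = h → h % 31 = 0 →
      H834.Sax.okS 31 1 5 [2, 3, 5, 7] ((cands H834.Sax.l62 20158709760).map ordN) [9999360] h 9 = true →
      Three (Matrix.ProjectiveSpecialLinearGroup (Fin 6) F) M := by
    intro h hh h5 hok
    have h9 : ∀ m ∈ M, orderOf m ≠ 9 := by
      intro m hm ho
      obtain ⟨K, _, _, hK, hna, hc, h9K⟩ := H834.Sax.exists_simple_of (H834.Sax.data_l62 OT hS hF) M (by simp) hh h5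
        (by decide) hok ⟨m, hm, ho⟩
      rw [List.mem_singleton] at hc
      exact H834.Sax.no_nine_9999360 OT hS hK hna hc h9K
    obtain ⟨g, hg⟩ := H834.Sax.nine_l62 hF
    obtain ⟨z, hz⟩ := exists_sing (F := F) (n := 6) (by norm_num)
    have hz63 : orderOf z = 63 := by
      rw [hz, hF]
      decide
    obtain ⟨x, rfl⟩ := pr_surjective z
    have hx63 : orderOf x = 63 := by
      have h1 : x ^ 63 = 1 := by
        have h2 : x ^ 63 ∈ Subgroup.center (Matrix.SpecialLinearGroup (Fin 6) F) := by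
          rw [← pr_eq_one_iff, map_pow, ← hz63, pow_orderOf_eq_one]
        have h3 := smul_pow_gcd (by norm_num) h2
        rw [hF] at h3
        simpa using h3
      refine Nat.dvd_antisymm (orderOf_dvd_of_pow_eq_one h1) ?_
      rw [← hz63]
      exact orderOf_dvd_of_pow_eq_one (by rw [← map_pow, pow_orderOf_eq_one, map_one])
    have h63 : ∀ m ∈ M, orderOf m ≠ 63 := by
      intro m hm ho
      refine h9 (m ^ 7) (M.pow_mem hm 7) ?_
      rw [orderOf_pow' m (by norm_num), ho]
      decide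
    have hx5 : orderOf (pr x ^ 5) = 63 := by
      rw [Nat.Coprime.orderOf_pow, hz63]
      rw [hz63]
      norm_num
    refine ⟨g, pr x, pr x ^ 5, fun φ hφ => h9 _ hφ ?_, fun φ hφ => h63 _ hφ ?_, fun φ hφ => h63 _ hφ ?_,
      fun φ hφ => ?_, fun φ hφ => ?_, fun φ => sixtythree hF hx63 φ⟩
    · rw [orderOf_mulEquiv, hg]
    · rw [orderOf_mulEquiv, hz63]
    · rw [orderOf_mulEquiv, hx5]
    · have h1 := orderOf_mulEquiv φ g
      rw [hφ, hz63, hg] at h1
      norm_num at h1
    · have h1 := orderOf_mulEquiv φ g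
      rw [hφ, hx5, hg] at h1
      norm_num at h1
  rcases H834.Sax.pgap_l62 OT hS hF M hM with h | h | h
  · obtain ⟨v, hv, h1, h2⟩ := h
    exact three_of_gap (by norm_num) hex hv h1 (by rw [hF]; simp) M h2
  · exact key _ h (by norm_num) (by decide +kernel)
  · exact key _ h (by norm_num) (by decide +kernel)

end Cfsg.Agent.H205.DerPsl
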