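import Cfsg.Agent.H205.Der.PslB
import Cfsg.Agent.S2638

/-!
# Irreducible elements of `PSL_n(q)` do not normalize `p`-subgroups (helper205, S3502)
-/

set_option autoImplicit false

namespace Cfsg.Agent.H205.DerPsl

open Matrix Polynomial Cfsg.Agent.H39.DerPsl Cfsg.Agent.LieExceptional.IrredMatrix
  Cfsg.Agent.ClassicalGeometry.AutPSL.Root Cfsg.Agent.ClassicalGeometry.AutPSL.Auto Cfsg.Agent.H199.PslAut

variable {F : Type*} [Field F] [Fintype F] {n : ℕ}

/-- **irreducible elements do not normalize nontrivial unipotent subgroups** -/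
theorem no_inv {p v : ℕ} [hp : Fact p.Prime] [CharP F p] (hv : v.Prime) (hvp : v ≠ p)
    (he : orderOf ((Fintype.card F : ℕ) : ZMod v) = n) {x : Matrix.SpecialLinearGroup (Fin n) F} (hx : orderOf x = v)
    (S : Subgroup (Matrix.ProjectiveSpecialLinearGroup (Fin n) F)) (hS : IsPGroup p S)
    (hinv : ∀ s ∈ S, (pr x)⁻¹ * s * pr x ∈ S) : S = ⊥ := by
  classical
  by_contra hne
  have hfin : Finite (Matrix.ProjectiveSpecialLinearGroup (Fin n) F) := finite_psl
  have hvF : (v : F) ≠ 0 := by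
    intro h
    have h1 := (CharP.cast_eq_zero_iff F p v).1 h
    exact hvp ((Nat.prime_dvd_prime_iff_eq hp.out hv).1 h1).symm
  have hx1 : (x : Matrix (Fin n) (Fin n) F) ≠ 1 := by
    intro h
    have h1 : x = 1 := Subtype.ext h
    rw [h1, orderOf_one] at hx
    exact hv.one_lt.ne hx
  have hxv : (x : Matrix (Fin n) (Fin n) F) ^ v = 1 := by
    rw [← Matrix.SpecialLinearGroup.coe_pow, ← hx, pow_orderOf_eq_one, Matrix.SpecialLinearGroup.coe_one]
  obtain ⟨hirr, hdeg⟩ := S2638.irr hv hvF he hxv hx1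
  -- the preimage
  let f : Matrix.SpecialLinearGroup (Fin n) F →* Matrix.ProjectiveSpecialLinearGroup (Fin n) F := pr
  let H := S.comap f
  have hmemH : ∀ u : Matrix.SpecialLinearGroup (Fin n) F, u ∈ H ↔ pr u ∈ S := fun u => Iff.rfl
  let g : H →* S := (f.comp H.subtype).codRestrict S (fun u => u.2)
  have hgs : Function.Surjective g := by
    rintro ⟨s, hs⟩
    obtain ⟨u, rfl⟩ := pr_surjective s
    exact ⟨⟨u, hs⟩, rfl⟩
  have hnilS : Group.IsNilpotent S := hS.isNilpotent
  have hnil : Group.IsNilpotent H := by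
    refine Subgroup.isNilpotent_of_ker_le_center g ?_
    intro u hu
    rw [Subgroup.mem_center_iff]
    intro w
    have h1 : pr (u : Matrix.SpecialLinearGroup (Fin n) F) = 1 := congrArg Subtype.val (MonoidHom.mem_ker.1 hu)
    have h2 := (pr_eq_one_iff _).1 h1
    exact Subtype.ext ((Subgroup.mem_center_iff.1 h2) w)
  obtain ⟨U⟩ : Nonempty (Sylow p H) := inferInstance
  have hUn : (U : Subgroup H).Normal := inferInstance
  have huniq : ∀ P : Sylow p H, P = U := fun P => (Sylow.unique_of_normal U hUn).uniq P |>.trans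
    ((Sylow.unique_of_normal U hUn).uniq U).symm
  have hmemU : ∀ u : H, (∃ k : ℕ, u ^ p ^ k = 1) → u ∈ U := by
    rintro u ⟨k, hk⟩
    have hz : IsPGroup p (Subgroup.zpowers u) := by
      obtain ⟨j, -, hj⟩ := (Nat.dvd_prime_pow hp.out).1 (orderOf_dvd_of_pow_eq_one hk)
      exact IsPGroup.of_card (n := j) (by rw [Nat.card_zpowers, hj])
    obtain ⟨P, hP⟩ := hz.exists_le_sylow
    rw [huniq P] at hP
    exact hP (Subgroup.mem_zpowers u)
  -- `U ≠ 1`
  have hU1 : ∃ u : H, u ∈ U ∧ (u : Matrix.SpecialLinearGroup (Fin n) F) ≠ 1 := by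
    have h1 : p ∣ Nat.card S := by
      obtain ⟨k, hk⟩ := IsPGroup.iff_card.1 hS
      have hk0 : k ≠ 0 := by
        rintro rfl
        exact hne (Subgroup.eq_bot_of_card_eq _ (by rw [hk, pow_zero]))
      rw [hk]
      exact dvd_pow_self p hk0
    have h2 : p ∣ Nat.card H := h1.trans (Subgroup.card_dvd_of_surjective g hgs)
    obtain ⟨u, hu⟩ := exists_prime_orderOf_dvd_card' p h2
    refine ⟨u, hmemU u ⟨1, by rw [pow_one, ← hu, pow_orderOf_eq_one]⟩, fun h3 => ?_⟩
    have h4 : u = 1 := Subtype.ext h3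
    rw [h4, orderOf_one] at hu
    exact hp.out.one_lt.ne hu
  -- the action on the vectors
  let act : MulAction U (Fin n → F) :=
    { smul := fun u w => (((u : H) : Matrix.SpecialLinearGroup (Fin n) F) : Matrix (Fin n) (Fin n) F) *ᵥ w
      one_smul := fun w => Matrix.one_mulVec w
      mul_smul := fun a b w => (Matrix.mulVec_mulVec _ _ _).symm }
  have hn0 : n ≠ 0 := by
    rintro rfl
    exact hx1 (Subsingleton.elim _ _)
  have hpV : p ∣ Nat.card (Fin n → F) := by
    rw [Nat.card_eq_fintype_card, Fintype.card_fun, Fintype.card_fin]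
    obtain ⟨m, -, hm⟩ := FiniteField.card F p
    rw [hm]
    exact dvd_pow (dvd_pow_self p m.pos.ne') hn0
  obtain ⟨w, hw, hw0⟩ := U.2.exists_fixed_point_of_prime_dvd_card_of_fixed_point (Fin n → F) hpV (a := 0)
    (fun u => Matrix.mulVec_zero _)
  have hwU : ∀ u : H, u ∈ U → ((u : Matrix.SpecialLinearGroup (Fin n) F) : Matrix (Fin n) (Fin n) F) *ᵥ w = w :=
    fun u hu => hw ⟨u, hu⟩
  have hconj : ∀ u : H, u ∈ U → ∃ u' : H, u' ∈ U ∧
      (u' : Matrix.SpecialLinearGroup (Fin n) F) = x⁻¹ * (u : Matrix.SpecialLinearGroup (Fin n) F) * x := by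
    intro u hu
    have h1 : x⁻¹ * (u : Matrix.SpecialLinearGroup (Fin n) F) * x ∈ H := by
      rw [hmemH, map_mul, map_mul, map_inv]
      exact hinv _ u.2
    refine ⟨⟨_, h1⟩, hmemU _ ?_, rfl⟩
    obtain ⟨k, hk⟩ := U.2 ⟨u, hu⟩
    refine ⟨k, Subtype.ext ?_⟩
    have h2 : ((u : H) : Matrix.SpecialLinearGroup (Fin n) F) ^ p ^ k = 1 :=
      congrArg (fun z : U => ((z : H) : Matrix.SpecialLinearGroup (Fin n) F)) hk
    change (x⁻¹ * (u : Matrix.SpecialLinearGroup (Fin n) F) * x) ^ p ^ k = 1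
    have h3 := conj_pow (i := p ^ k) (a := x⁻¹) (b := (u : Matrix.SpecialLinearGroup (Fin n) F))
    rw [inv_inv] at h3
    rw [h3, h2, mul_one, inv_mul_cancel]
  have hstep : ∀ z : Fin n → F,
      (∀ u : H, u ∈ U → ((u : Matrix.SpecialLinearGroup (Fin n) F) : Matrix (Fin n) (Fin n) F) *ᵥ z = z) →
      ∀ u : H, u ∈ U → ((u : Matrix.SpecialLinearGroup (Fin n) F) : Matrix (Fin n) (Fin n) F) *ᵥ
        ((x : Matrix (Fin n) (Fin n) F) *ᵥ z) = (x : Matrix (Fin n) (Fin n) F) *ᵥ z := by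
    intro z hz u hu
    obtain ⟨u', hu', h1⟩ := hconj u hu
    have h2 : (u : Matrix.SpecialLinearGroup (Fin n) F) * x = x * (u' : Matrix.SpecialLinearGroup (Fin n) F) := by
      rw [h1]
      group
    rw [Matrix.mulVec_mulVec, ← Matrix.SpecialLinearGroup.coe_mul, h2, Matrix.SpecialLinearGroup.coe_mul,
      ← Matrix.mulVec_mulVec, hz u' hu']
  have hpow : ∀ k : ℕ, ∀ u : H, u ∈ U → ((u : Matrix.SpecialLinearGroup (Fin n) F) : Matrix (Fin n) (Fin n) F) *ᵥ
        ((x : Matrix (Fin n) (Fin n) F) ^ k *ᵥ w) = (x : Matrix (Fin n) (Fin n) F) ^ k *ᵥ w := by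
    intro k
    induction k with
    | zero =>
      intro u hu
      rw [pow_zero, Matrix.one_mulVec]
      exact hwU u hu
    | succ k ih =>
      rw [pow_succ', ← Matrix.mulVec_mulVec]
      exact hstep _ ih
  have hall : ∀ h : F[X], ∀ u : H, u ∈ U → ((u : Matrix.SpecialLinearGroup (Fin n) F) : Matrix (Fin n) (Fin n) F) *ᵥ
        (aeval (x : Matrix (Fin n) (Fin n) F) h *ᵥ w) = aeval (x : Matrix (Fin n) (Fin n) F) h *ᵥ w := by
    intro h
    induction h using Polynomial.induction_on' with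
    | add a b ha hb =>
      intro u hu
      rw [map_add, Matrix.add_mulVec, Matrix.mulVec_add, ha u hu, hb u hu]
    | monomial k a =>
      intro u hu
      rw [aeval_monomial, Algebra.algebraMap_eq_smul_one, smul_mul_assoc, one_mul, Matrix.smul_mulVec,
        Matrix.mulVec_smul, hpow k u hu]
  obtain ⟨u, hu, hu1⟩ := hU1
  apply hu1
  apply Subtype.ext
  rw [Matrix.SpecialLinearGroup.coe_one]
  refine Matrix.ext_of_mulVec_single fun i => ?_
  obtain ⟨h, hh⟩ := exists_aeval_mulVec_eq hirr hdeg.ge hw0.symm (Pi.single i 1)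
  rw [Matrix.one_mulVec, ← hh]
  exact hall h u hu

end Cfsg.Agent.H205.DerPsl
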