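import Cfsg.Agent.H39.Der.Num

/-!
# Numbers for `NTC (PSL_n(q))` (helper205, S3502)
-/

set_option autoImplicit false

namespace Cfsg.Agent.H205.DerPsl

open Cfsg.Agent.H39.DerPsl

theorem j2 {e : ℕ} (he : 5 ≤ e) : 4 * e + 1 < gs 2 e := by
  induction e, he using Nat.le_induction with
  | base => decide
  | succ n hn ih => rw [gs_succ]; omega

theorem j3 {e : ℕ} (he : 5 ≤ e) : (4 * e + 1) * 2 < gs 3 e := by
  induction e, he using Nat.le_induction with
  | base => decide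
  | succ n hn ih => rw [gs_succ]; omega

theorem j4 {e : ℕ} (he : 5 ≤ e) : (8 * e + 1) * 3 < gs 4 e := by
  induction e, he using Nat.le_induction with
  | base => decide
  | succ n hn ih => rw [gs_succ]; omega

theorem gs_five (q : ℕ) : gs q 5 = q ^ 4 + q ^ 3 + q ^ 2 + q + 1 := by
  simp [gs, Finset.sum_range_succ]; ring

theorem j5 {q e : ℕ} (hq : 5 ≤ q) (he : 5 ≤ e) : (2 * e * q + 1) * e < gs q e := by
  induction e, he using Nat.le_induction with
  | base =>
    rw [gs_five]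
    have h1 : 5 * q ≤ q ^ 2 := by nlinarith
    have h2 : 25 * q ≤ q ^ 3 := by nlinarith [Nat.mul_le_mul h1 hq, pow_succ q 2]
    have h3 : 125 * q ≤ q ^ 4 := by
      have : q ^ 4 = q ^ 3 * q := by ring
      nlinarith
    nlinarith
  | succ n hn ih =>
    rw [gs_succ]
    have h1 : q * ((2 * n * q + 1) * n) < q * gs q n := Nat.mul_lt_mul_of_pos_left ih (by omega)
    have h2 : 5 * ((2 * n * q + 1) * n) ≤ q * ((2 * n * q + 1) * n) := Nat.mul_le_mul_right _ hq
    have h4 : (n + 1) * (n + 1) ≤ 5 * (n * n) := by nlinarith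
    have h5 : 2 * ((n + 1) * (n + 1)) * q ≤ 2 * (5 * (n * n)) * q := Nat.mul_le_mul_right q (by omega)
    have h3 : (2 * (n + 1) * q + 1) * (n + 1) ≤ 5 * ((2 * n * q + 1) * n) := by nlinarith
    omega

theorem f_small {p f q B : ℕ} (hp : p.Prime) (hf : 1 ≤ f) (hq : q = p ^ f) (hB : q < B) : p < B := by
  have : p ^ 1 ≤ p ^ f := Nat.pow_le_pow_right hp.pos hf
  rw [pow_one] at this
  omega

theorem tab3 : ∀ q ∈ Finset.Ico 2 18, q ∉ ({2, 3, 4} : Finset ℕ) → ∀ f ∈ Finset.Ico 1 5, ∀ p ∈ Finset.Ico 2 18, q = p ^ f →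
    ∀ g ∈ Finset.Ico 1 4, g ∣ Nat.gcd 3 (q - 1) → (4 * (3 * f) + 1) * g < q ^ 2 + q + 1 := by
  decide +kernel

theorem tab4 : ∀ q ∈ Finset.Ico 3 18, ∀ f ∈ Finset.Ico 1 5, ∀ p ∈ Finset.Ico 2 18, q = p ^ f →
    ∀ g ∈ Finset.Ico 1 5, g ∣ Nat.gcd 4 (q - 1) → (4 * (4 * f) + 1) * g < q ^ 3 + q ^ 2 + q + 1 := by
  decide +kernel

theorem num_J {p f q n g : ℕ} (hp : p.Prime) (hf : 1 ≤ f) (hq : q = p ^ f) (hn : 3 ≤ n)
    (hex : (n, q) ∉ ({(3, 2), (3, 3), (3, 4), (4, 2)} : Finset (ℕ × ℕ))) (hg : g ∣ Nat.gcd n (q - 1)) :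
    (4 * (n * f) + 1) * g < gs q n := by
  obtain ⟨h5, h6⟩ := two_f hp hf hq
  have hp2 := hp.two_le
  have hq2 : 2 ≤ q := by omega
  have hdn : g ≤ n := Nat.le_of_dvd (by omega) (hg.trans (Nat.gcd_dvd_left _ _))
  have hdq : g ≤ q - 1 := Nat.le_of_dvd (by omega) (hg.trans (Nat.gcd_dvd_right _ _))
  have hg0 : 0 < g := Nat.pos_of_dvd_of_pos hg (Nat.gcd_pos_of_pos_left _ (by omega))
  simp only [Finset.mem_insert, Finset.mem_singleton, Prod.mk.injEq, not_or] at hex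
  obtain ⟨e1, e2, e3, e4⟩ := hex
  have hf18 : q < 18 → f < 5 := by
    intro h
    by_contra hc
    have : 2 ^ 5 ≤ 2 ^ f := Nat.pow_le_pow_right (by norm_num) (by omega)
    omega
  rcases Nat.lt_or_ge n 5 with h | h
  · have h34 : n = 3 ∨ n = 4 := by omega
    rcases h34 with rfl | rfl
    · rw [gs_three]
      rcases Nat.lt_or_ge q 18 with h18 | h18
      · refine tab3 q (Finset.mem_Ico.2 ⟨hq2, h18⟩) ?_ f (Finset.mem_Ico.2 ⟨hf, hf18 h18⟩) p
          (Finset.mem_Ico.2 ⟨hp2, f_small hp hf hq h18⟩) hq g (Finset.mem_Ico.2 ⟨hg0, by omega⟩) hg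
        simp only [Finset.mem_insert, Finset.mem_singleton]
        omega
      · have h7 : (4 * (3 * f) + 1) * g ≤ (6 * q + 1) * 3 := Nat.mul_le_mul (by omega) hdn
        nlinarith
    · rw [gs_four]
      rcases Nat.lt_or_ge q 18 with h18 | h18
      · exact tab4 q (Finset.mem_Ico.2 ⟨by omega, h18⟩) f (Finset.mem_Ico.2 ⟨hf, hf18 h18⟩) p
          (Finset.mem_Ico.2 ⟨hp2, f_small hp hf hq h18⟩) hq g (Finset.mem_Ico.2 ⟨hg0, by omega⟩) hg
      · have h7 : (4 * (4 * f) + 1) * g ≤ (8 * q + 1) * 4 := Nat.mul_le_mul (by omega) hdn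
        have h8 : 18 * q ≤ q ^ 2 := by nlinarith
        have h9 : 18 * q ^ 2 ≤ q ^ 3 := by
          rw [pow_succ q 2]
          nlinarith
        nlinarith
  · rcases Nat.lt_or_ge q 5 with h9 | h9
    · have hf4 : f < 3 := by
        by_contra hc
        have : 2 ^ 3 ≤ 2 ^ f := Nat.pow_le_pow_right (by norm_num) (by omega)
        omega
      interval_cases q
      · have := j2 h
        have hd1 : g ≤ 1 := hdq
        have hf1 : f = 1 := by interval_cases f <;> omega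
        subst hf1
        have : (4 * (n * 1) + 1) * g ≤ (4 * (n * 1) + 1) * 1 := Nat.mul_le_mul_left _ hd1
        omega
      · have := j3 h
        have hd1 : g ≤ 2 := hdq
        have hf1 : f = 1 := by interval_cases f <;> omega
        subst hf1
        have : (4 * (n * 1) + 1) * g ≤ (4 * (n * 1) + 1) * 2 := Nat.mul_le_mul_left _ hd1
        omega
      · have := j4 h
        have hd1 : g ≤ 3 := hdq
        have : (4 * (n * f) + 1) * g ≤ (8 * n + 1) * 3 := Nat.mul_le_mul (by nlinarith) hd1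
        omega
    · have := j5 h9 h
      have h7 : (4 * (n * f) + 1) * g ≤ (2 * n * q + 1) * n := Nat.mul_le_mul (by nlinarith) hdn
      omega

/-! ### the inequality `g (c + 1) ≤ q ^ ⌈e / 2⌉` -/

theorem ev2 {u : ℕ} (hu : 3 ≤ u) : 2 * u + 1 ≤ 2 ^ u := by
  induction u, hu using Nat.le_induction with
  | base => decide
  | succ n hn ih => rw [pow_succ]; omega

theorem ev3 {u : ℕ} (hu : 3 ≤ u) : 2 * (2 * u + 1) ≤ 3 ^ u := by
  induction u, hu using Nat.le_induction with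
  | base => decide
  | succ n hn ih => rw [pow_succ]; omega

theorem ev4 {u : ℕ} (hu : 3 ≤ u) : 3 * (4 * u + 1) ≤ 4 ^ u := by
  induction u, hu using Nat.le_induction with
  | base => decide
  | succ n hn ih => rw [pow_succ]; omega

theorem ev5 {q u : ℕ} (hq : 5 ≤ q) (hu : 3 ≤ u) : 2 * u * (u * q + 1) ≤ q ^ u := by
  induction u, hu using Nat.le_induction with
  | base =>
    have h1 : 5 * q ≤ q ^ 2 := by nlinarith
    have h2 : q ^ 3 = q ^ 2 * q := by ring
    nlinarith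
  | succ n hn ih =>
    rw [pow_succ]
    have h1 : 2 * n * (n * q + 1) * q ≤ q ^ n * q := Nat.mul_le_mul_right q ih
    have h2 : 2 * n * (n * q + 1) * 5 ≤ 2 * n * (n * q + 1) * q := Nat.mul_le_mul_left _ hq
    have h4 : (n + 1) * (n + 1) ≤ 5 * (n * n) := by nlinarith
    have h5 : (n + 1) * (n + 1) * q ≤ 5 * (n * n) * q := Nat.mul_le_mul_right q h4
    have h3 : 2 * (n + 1) * ((n + 1) * q + 1) ≤ 2 * n * (n * q + 1) * 5 := by nlinarith
    omega

theorem od2 {u : ℕ} (hu : 4 ≤ u) : 4 * u - 1 ≤ 2 ^ u := by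
  induction u, hu using Nat.le_induction with
  | base => decide
  | succ n hn ih => rw [pow_succ]; omega

theorem od3 {u : ℕ} (hu : 3 ≤ u) : 2 * (4 * u - 1) ≤ 3 ^ u := by
  induction u, hu using Nat.le_induction with
  | base => decide
  | succ n hn ih => rw [pow_succ]; omega

theorem od4 {u : ℕ} (hu : 3 ≤ u) : 3 * (8 * u - 3) ≤ 4 ^ u := by
  induction u, hu using Nat.le_induction with
  | base => decide
  | succ n hn ih => rw [pow_succ]; omega

theorem od5 {q u : ℕ} (hq : 5 ≤ q) (hu : 4 ≤ u) : (2 * u - 1) * ((2 * u - 1) * q + 1) ≤ q ^ u := by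
  induction u, hu using Nat.le_induction with
  | base =>
    have h1 : 5 * q ≤ q ^ 2 := by nlinarith
    have h2 : q ^ 4 = q ^ 2 * q ^ 2 := by ring
    have h3 : 5 * q * (5 * q) ≤ q ^ 2 * q ^ 2 := Nat.mul_le_mul h1 h1
    norm_num
    nlinarith
  | succ n hn ih =>
    rw [pow_succ]
    obtain ⟨m, hm⟩ : ∃ m, 2 * n - 1 = m := ⟨_, rfl⟩
    have hm7 : 7 ≤ m := by omega
    have hm2 : 2 * (n + 1) - 1 = m + 2 := by omega
    rw [hm] at ih
    rw [hm2]
    have h1 : m * (m * q + 1) * q ≤ q ^ n * q := Nat.mul_le_mul_right q ih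
    have h2 : m * (m * q + 1) * 5 ≤ m * (m * q + 1) * q := Nat.mul_le_mul_left _ hq
    have h4 : (m + 2) * (m + 2) ≤ 5 * (m * m) := by nlinarith
    have h5 : (m + 2) * (m + 2) * q ≤ 5 * (m * m) * q := Nat.mul_le_mul_right q h4
    have h3 : (m + 2) * ((m + 2) * q + 1) ≤ m * (m * q + 1) * 5 := by nlinarith
    omega

theorem tabE : ∀ q ∈ Finset.Ico 4 18, ∀ f ∈ Finset.Ico 1 5, ∀ p ∈ Finset.Ico 2 18, q = p ^ f →
    ∀ g ∈ Finset.Ico 1 5, g ∣ Nat.gcd 4 (q - 1) → g * (4 * f + 1) ≤ q ^ 2 := by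
  decide +kernel

theorem tabO : ∀ q ∈ Finset.Ico 3 18, ∀ f ∈ Finset.Ico 1 5, ∀ p ∈ Finset.Ico 2 18, q = p ^ f →
    ∀ g ∈ Finset.Ico 1 6, g ∣ Nat.gcd 5 (q - 1) → g * (10 * f + 1) ≤ q ^ 3 := by
  decide +kernel

theorem num_even {p f q u g : ℕ} (hp : p.Prime) (hf : 1 ≤ f) (hq : q = p ^ f) (hu : 2 ≤ u)
    (hex : ¬ (u = 2 ∧ q ≤ 3)) (hg : g ∣ Nat.gcd (2 * u) (q - 1)) : g * (2 * u * f + 1) ≤ q ^ u := by
  obtain ⟨h5, h6⟩ := two_f hp hf hq
  have hp2 := hp.two_le
  have hq2 : 2 ≤ q := by omega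
  have hdn : g ≤ 2 * u := Nat.le_of_dvd (by omega) (hg.trans (Nat.gcd_dvd_left _ _))
  have hdq : g ≤ q - 1 := Nat.le_of_dvd (by omega) (hg.trans (Nat.gcd_dvd_right _ _))
  have hg0 : 0 < g := Nat.pos_of_dvd_of_pos hg (Nat.gcd_pos_of_pos_left _ (by omega))
  rcases Nat.lt_or_ge u 3 with h | h
  · obtain rfl : u = 2 := by omega
    rcases Nat.lt_or_ge q 18 with h18 | h18
    · have hf18 : f < 5 := by
        by_contra hc
        have : 2 ^ 5 ≤ 2 ^ f := Nat.pow_le_pow_right (by norm_num) (by omega)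
        omega
      exact tabE q (Finset.mem_Ico.2 ⟨by omega, h18⟩) f (Finset.mem_Ico.2 ⟨hf, hf18⟩) p
        (Finset.mem_Ico.2 ⟨hp2, f_small hp hf hq h18⟩) hq g (Finset.mem_Ico.2 ⟨hg0, by omega⟩) hg
    · have h7 : g * (2 * 2 * f + 1) ≤ 4 * (2 * q + 1) := Nat.mul_le_mul (by omega) (by omega)
      nlinarith
  · rcases Nat.lt_or_ge q 5 with h9 | h9
    · have hf4 : f < 3 := by
        by_contra hc
        have : 2 ^ 3 ≤ 2 ^ f := Nat.pow_le_pow_right (by norm_num) (by omega)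
        omega
      interval_cases q
      · have := ev2 h
        have hd1 : g ≤ 1 := hdq
        have hf1 : f = 1 := by interval_cases f <;> omega
        subst hf1
        have : g * (2 * u * 1 + 1) ≤ 1 * (2 * u * 1 + 1) := Nat.mul_le_mul_right _ hd1
        omega
      · have := ev3 h
        have hd1 : g ≤ 2 := hdq
        have hf1 : f = 1 := by interval_cases f <;> omega
        subst hf1
        have : g * (2 * u * 1 + 1) ≤ 2 * (2 * u * 1 + 1) := Nat.mul_le_mul_right _ hd1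
        omega
      · have := ev4 h
        have hd1 : g ≤ 3 := hdq
        have : g * (2 * u * f + 1) ≤ 3 * (4 * u + 1) := Nat.mul_le_mul hd1 (by nlinarith)
        omega
    · have := ev5 h9 h
      have h7 : g * (2 * u * f + 1) ≤ 2 * u * (u * q + 1) := Nat.mul_le_mul hdn (by nlinarith)
      omega

theorem num_odd {p f q u g : ℕ} (hp : p.Prime) (hf : 1 ≤ f) (hq : q = p ^ f) (hu : 3 ≤ u)
    (hex : ¬ (u = 3 ∧ q = 2)) (hg : g ∣ Nat.gcd (2 * u - 1) (q - 1)) :
    g * (2 * ((2 * u - 1) * f) + 1) ≤ q ^ u := by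
  obtain ⟨h5, h6⟩ := two_f hp hf hq
  have hp2 := hp.two_le
  have hq2 : 2 ≤ q := by omega
  have hdn : g ≤ 2 * u - 1 := Nat.le_of_dvd (by omega) (hg.trans (Nat.gcd_dvd_left _ _))
  have hdq : g ≤ q - 1 := Nat.le_of_dvd (by omega) (hg.trans (Nat.gcd_dvd_right _ _))
  have hg0 : 0 < g := Nat.pos_of_dvd_of_pos hg (Nat.gcd_pos_of_pos_left _ (by omega))
  rcases Nat.lt_or_ge u 4 with h | h
  · obtain rfl : u = 3 := by omega
    rcases Nat.lt_or_ge q 18 with h18 | h18
    · have hf18 : f < 5 := by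
        by_contra hc
        have : 2 ^ 5 ≤ 2 ^ f := Nat.pow_le_pow_right (by norm_num) (by omega)
        omega
      have := tabO q (Finset.mem_Ico.2 ⟨by omega, h18⟩) f (Finset.mem_Ico.2 ⟨hf, hf18⟩) p
        (Finset.mem_Ico.2 ⟨hp2, f_small hp hf hq h18⟩) hq g (Finset.mem_Ico.2 ⟨hg0, by omega⟩) hg
      norm_num
      rwa [show 2 * (5 * f) + 1 = 10 * f + 1 by ring]
    · have h7 : g * (2 * ((2 * 3 - 1) * f) + 1) ≤ 5 * (5 * q + 1) := Nat.mul_le_mul (by omega) (by omega)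
      have h1 : 18 * q ≤ q ^ 2 := by nlinarith
      have h2 : q ^ 3 = q ^ 2 * q := by ring
      nlinarith
  · rcases Nat.lt_or_ge q 5 with h9 | h9
    · have hf4 : f < 3 := by
        by_contra hc
        have : 2 ^ 3 ≤ 2 ^ f := Nat.pow_le_pow_right (by norm_num) (by omega)
        omega
      interval_cases q
      · have := od2 h
        have hd1 : g ≤ 1 := hdq
        have hf1 : f = 1 := by interval_cases f <;> omega
        subst hf1
        have : g * (2 * ((2 * u - 1) * 1) + 1) ≤ 1 * (2 * ((2 * u - 1) * 1) + 1) := Nat.mul_le_mul_right _ hd1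
        omega
      · have := od3 (u := u) (by omega)
        have hd1 : g ≤ 2 := hdq
        have hf1 : f = 1 := by interval_cases f <;> omega
        subst hf1
        have : g * (2 * ((2 * u - 1) * 1) + 1) ≤ 2 * (2 * ((2 * u - 1) * 1) + 1) := Nat.mul_le_mul_right _ hd1
        omega
      · have := od4 (u := u) (by omega)
        have hd1 : g ≤ 3 := hdq
        have h8 : 2 * ((2 * u - 1) * f) + 1 ≤ 8 * u - 3 := by
          have : (2 * u - 1) * f ≤ (2 * u - 1) * 2 := Nat.mul_le_mul_left _ (by omega)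
          omega
        have : g * (2 * ((2 * u - 1) * f) + 1) ≤ 3 * (8 * u - 3) := Nat.mul_le_mul hd1 h8
        omega
    · have := od5 h9 h
      have h8 : 2 * ((2 * u - 1) * f) + 1 ≤ (2 * u - 1) * q + 1 := by
        have : (2 * u - 1) * (2 * f) ≤ (2 * u - 1) * q := Nat.mul_le_mul_left _ h6
        nlinarith
      have h7 : g * (2 * ((2 * u - 1) * f) + 1) ≤ (2 * u - 1) * ((2 * u - 1) * q + 1) := Nat.mul_le_mul hdn h8
      omega

/-- the bound for the classes -/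
def cc (e f : ℕ) : ℕ := if Even e then e * f else 2 * (e * f)

theorem num_L {p f q e g : ℕ} (hp : p.Prime) (hf : 1 ≤ f) (hq : q = p ^ f) (he : 4 ≤ e)
    (hex : (e, q) ∉ ({(4, 2), (4, 3), (5, 2)} : Finset (ℕ × ℕ))) (hg : g ∣ Nat.gcd e (q - 1)) :
    g * (cc e f + 1) ≤ q ^ ((e + 1) / 2) := by
  obtain ⟨h5, h6⟩ := two_f hp hf hq
  simp only [Finset.mem_insert, Finset.mem_singleton, Prod.mk.injEq, not_or] at hex
  rcases Nat.even_or_odd e with h | h
  · rw [cc, if_pos h]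
    obtain ⟨u, hu⟩ := h
    obtain rfl : e = 2 * u := by omega
    rw [show (2 * u + 1) / 2 = u by omega]
    exact num_even hp hf hq (by omega) (by omega) hg
  · rw [cc, if_neg (Nat.not_even_iff_odd.2 h)]
    obtain ⟨u, hu⟩ := h
    obtain ⟨w, rfl⟩ : ∃ w, e = 2 * w - 1 := ⟨u + 1, by omega⟩
    rw [show (2 * w - 1 + 1) / 2 = w by omega]
    exact num_odd hp hf hq (by omega) (by omega) hg

/-! ### repunits -/

theorem gs_add (q a b : ℕ) : gs q (a + b) = gs q a + q ^ a * gs q b := by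
  unfold gs
  rw [Finset.sum_range_add, Finset.mul_sum]
  simp [pow_add]

theorem gs_pos (q : ℕ) {n : ℕ} (hn : 1 ≤ n) : 1 ≤ gs q n := by
  obtain ⟨m, rfl⟩ : ∃ m, n = m + 1 := ⟨n - 1, by omega⟩
  rw [gs_succ]
  omega

/-- `gs q j ∣ gs q e` for `j ∣ e` -/
theorem gs_dvd {q j e : ℕ} (hq : 2 ≤ q) (h : j ∣ e) : gs q j ∣ gs q e := by
  obtain ⟨k, rfl⟩ := h
  have h1 : q ^ j - 1 ∣ q ^ (j * k) - 1 := by
    rw [pow_mul]
    have := Nat.sub_dvd_pow_sub_pow (q ^ j) 1 k
    rwa [one_pow] at this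
  rw [← gs_mul q j (by omega), ← gs_mul q (j * k) (by omega)] at h1
  exact Nat.dvd_of_mul_dvd_mul_right (by omega) h1

/-- `q ^ (e - j) gs q j < gs q e` for `j < e` -/
theorem gs_gt {q j e : ℕ} (h : j < e) : q ^ (e - j) * gs q j < gs q e := by
  have h1 : e = (e - j) + j := by omega
  conv_rhs => rw [h1, gs_add]
  have := gs_pos q (n := e - j) (by omega)
  omega

end Cfsg.Agent.H205.DerPsl
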