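import Cfsg.Agent.H39.Der.PslNSC
import Cfsg.Agent.H439.Der.Three

/-!
# Three orders divisible by `v` in `PSL_n(q)` (helper205, S3502)

* `hasBlock_gs`;
* `three_small`, `three_one`, `three_char` : the primes of weight at most `n - 2`, `n ≥ 4`.
-/

set_option autoImplicit false

namespace Cfsg.Agent.H205.DerPsl

open Matrix Cfsg.Agent.H72 Cfsg.Agent.H72.AdjPSL Cfsg.Agent.H72.AdjOrth Cfsg.Agent.H39.DerPsl Cfsg.Agent.H439.Der

/-- there is an element of order `N` -/
def HasOrd (T : Type*) [Group T] (N : ℕ) : Prop := ∃ z : T, orderOf z = N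

theorem HasOrd.dvd {T : Type*} [Group T] {N M : ℕ} (h : HasOrd T N) (hN : N ≠ 0) (hM : M ∣ N) : HasOrd T M := by
  obtain ⟨z, hz⟩ := h
  subst hz
  exact ⟨z ^ (orderOf z / M), orderOf_pow_orderOf_div hN hM⟩

theorem not_SCC_of_ords {T : Type*} [Group T] {v a b c : ℕ} (ha : HasOrd T a) (hb : HasOrd T b) (hc : HasOrd T c)
    (hva : v ∣ a) (hvb : v ∣ b) (hvc : v ∣ c) (hab : a ≠ b) (hac : a ≠ c) (hbc : b ≠ c) : ¬ SCC T v := by
  obtain ⟨x, rfl⟩ := ha
  obtain ⟨y, rfl⟩ := hb
  obtain ⟨z, rfl⟩ := hc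
  exact not_SCC_of_orders hva hvb hvc hab hac hbc

/-- `v`, `v a`, `v b` -/
theorem not_SCC_of_mul {T : Type*} [Group T] {v a b : ℕ} (hv : 0 < v) (h1 : HasOrd T v) (ha : HasOrd T (v * a))
    (hb : HasOrd T (v * b)) (ha1 : a ≠ 1) (hb1 : b ≠ 1) (hab : a ≠ b) : ¬ SCC T v := by
  refine not_SCC_of_ords h1 ha hb dvd_rfl (dvd_mul_right _ _) (dvd_mul_right _ _) ?_ ?_ ?_
  · intro h
    exact ha1 (Nat.eq_of_mul_eq_mul_left hv (by rw [← h, mul_one]))
  · intro h
    exact hb1 (Nat.eq_of_mul_eq_mul_left hv (by rw [← h, mul_one]))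
  · intro h
    exact hab (Nat.eq_of_mul_eq_mul_left hv h)

/-- an element of order `v m`, `m ≠ 1` not a prime -/
theorem not_SCC_of_not_prime {T : Type*} [Group T] {v m : ℕ} (hv : 0 < v) (h : HasOrd T (v * m)) (hm0 : m ≠ 0) (hm1 : m ≠ 1)
    (hm : ¬ m.Prime) : ¬ SCC T v := by
  obtain ⟨r, hr, hrm⟩ := Nat.exists_prime_and_dvd hm1
  have h0 : v * m ≠ 0 := Nat.mul_ne_zero hv.ne' hm0
  refine not_SCC_of_mul (a := r) (b := m) hv (h.dvd h0 (dvd_mul_right _ _)) (h.dvd h0 (Nat.mul_dvd_mul_left v hrm)) h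
    hr.one_lt.ne' hm1 ?_
  rintro rfl
  exact hm hr

variable {F : Type*} [Field F] [Fintype F] {n : ℕ}

theorem hasOrd_prime {v : ℕ} (hv : v.Prime) (hd : v ∣ Nat.card (Matrix.ProjectiveSpecialLinearGroup (Fin n) F)) :
    HasOrd (Matrix.ProjectiveSpecialLinearGroup (Fin n) F) v := by
  have := finite_psl (F := F) (n := n)
  have := Fact.mk hv
  exact exists_prime_orderOf_dvd_card' v hd

/-- `A ^ (q - 1)` for a Singer cycle -/
theorem hasBlock_gs {a : ℕ} (ha : a ≠ 0) : HasBlock F a (gs (Fintype.card F) a) := by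
  obtain ⟨A, hA⟩ := AdjPSU.exists_singer F ha
  have hq1 : 1 < Fintype.card F := Fintype.one_lt_card
  have hgs := gs_mul (Fintype.card F) a hq1.le
  refine ⟨((A ^ (Fintype.card F - 1) : (Matrix (Fin a) (Fin a) F)ˣ) : Matrix (Fin a) (Fin a) F), ?_, ?_, ?_⟩
  · rw [Units.val_pow_eq_pow_val, Matrix.det_pow]
    apply FiniteField.pow_card_sub_one_eq_one
    exact ((Matrix.isUnit_iff_isUnit_det _).1 (Units.isUnit _)).ne_zero
  · rw [← Units.val_pow_eq_pow_val, ← pow_mul, mul_comm, hgs, ← hA, pow_orderOf_eq_one, Units.val_one]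
  · intro k hk
    have h2 : A ^ ((Fintype.card F - 1) * k) = 1 := by
      rw [pow_mul]
      apply Units.ext
      rw [Units.val_pow_eq_pow_val, hk, Units.val_one]
    have h3 := orderOf_dvd_of_pow_eq_one h2
    rw [hA, ← hgs, mul_comm] at h3
    exact Nat.dvd_of_mul_dvd_mul_left (by omega) h3

/-- two primes of small weights -/
theorem hasOrd_mul {r s : ℕ} (hr : r.Prime) (hs : s.Prime) (hrs : r ≠ s)
    (h : wL (Fintype.card F) r + wL (Fintype.card F) s ≤ n) :
    HasOrd (Matrix.ProjectiveSpecialLinearGroup (Fin n) F) (r * s) := adj_of_wL hr hs hrs h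

theorem p_dvd (p : ℕ) [Fact p.Prime] [CharP F p] : p ∣ Fintype.card F := by
  obtain ⟨m, -, hm⟩ := FiniteField.card F p
  rw [hm]
  exact dvd_pow_self p m.pos.ne'

theorem wL_p (p : ℕ) [Fact p.Prime] [CharP F p] : wL (Fintype.card F) p = 2 := by rw [wL, if_pos (Or.inl (p_dvd p))]

theorem not_dvd_of_dvd_sub {p q : ℕ} (hp : p.Prime) (hq : 1 ≤ q) (h : p ∣ q) : ¬ p ∣ q - 1 := by
  intro h1
  have h2 := Nat.dvd_sub h h1
  rw [show q - (q - 1) = 1 by omega] at h2
  exact hp.one_lt.ne' (Nat.dvd_one.1 h2)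

theorem not_dvd_of_dvd_add {p q : ℕ} (hp : p.Prime) (h : p ∣ q) : ¬ p ∣ q + 1 := by
  intro h1
  exact hp.one_lt.ne' (Nat.dvd_one.1 ((Nat.dvd_add_right h).1 h1))

/-- primes dividing `q + 1` have weight at most two -/
theorem wL_le_two {q s : ℕ} (hq : 2 ≤ q) (h : s ∣ q + 1) : wL q s ≤ 2 := by
  rw [wL]
  split_ifs with h4
  · exact le_rfl
  · have h1 : s ∣ q ^ 2 - 1 := by
      have : q ^ 2 - 1 = (q + 1) * (q - 1) := by
        have := Nat.sq_sub_sq q 1
        simpa using this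
      rw [this]
      exact h.mul_right _
    have h5 := ee_dvd (by omega : 1 ≤ q) h1
    exact Nat.le_of_dvd (by norm_num) h5

/-- **the primes of weight at most `n - 2`, not dividing `q (q - 1)`** -/
theorem three_small {p v : ℕ} [hp : Fact p.Prime] [CharP F p] (hv : v.Prime) (hvp : v ≠ p)
    (hvq : ¬ v ∣ Fintype.card F - 1) (h42 : ¬ (n = 4 ∧ Fintype.card F = 2))
    (hd : v ∣ Nat.card (Matrix.ProjectiveSpecialLinearGroup (Fin n) F))
    (h : ee (Fintype.card F) v + 2 ≤ n) : ¬ SCC (Matrix.ProjectiveSpecialLinearGroup (Fin n) F) v := by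
  have hq1 : 1 < Fintype.card F := Fintype.one_lt_card
  have hpq := p_dvd (F := F) p
  obtain ⟨m, -, hm⟩ := FiniteField.card F p
  have hvF : ¬ v ∣ Fintype.card F := by
    rw [hm]
    intro h
    exact hvp ((Nat.prime_dvd_prime_iff_eq hv hp.out).1 (hv.dvd_of_dvd_pow h))
  have hwv : wL (Fintype.card F) v = ee (Fintype.card F) v := by
    rw [wL, if_neg]
    rw [not_or]
    exact ⟨hvF, hvq⟩
  have hvp' : HasOrd (Matrix.ProjectiveSpecialLinearGroup (Fin n) F) (v * p) :=
    hasOrd_mul hv hp.out hvp (by rw [hwv, wL_p p]; exact h)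
  have h1 := hasOrd_prime hv hd
  rcases Nat.lt_or_ge (Fintype.card F) 3 with hq | hq
  · have hq2 : Fintype.card F = 2 := by omega
    have hp2 : p = 2 := by
      rw [hq2] at hpq
      exact (Nat.prime_dvd_prime_iff_eq hp.out Nat.prime_two).1 hpq
    subst hp2
    by_cases h3 : v = 3
    · subst h3
      have he : ee 2 3 = 2 := by
        have h1 := ee_dvd (q := 2) (r := 3) (k := 2) (by norm_num) (by norm_num)
        have h2 : ee 2 3 ≠ 1 := by rw [Ne, ee_eq_one_iff (by norm_num)]; norm_num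
        exact ((Nat.dvd_prime Nat.prime_two).1 h1).resolve_left h2
      rw [hq2, he] at h
      have he7 : ee 2 7 = 3 := by
        have h1 := ee_dvd (q := 2) (r := 7) (k := 3) (by norm_num) (by norm_num)
        have h2 : ee 2 7 ≠ 1 := by rw [Ne, ee_eq_one_iff (by norm_num)]; norm_num
        exact ((Nat.dvd_prime Nat.prime_three).1 h1).resolve_left h2
      have h37 : HasOrd (Matrix.ProjectiveSpecialLinearGroup (Fin n) F) (3 * 7) :=
        hasOrd_mul (by norm_num) (by norm_num) (by norm_num) (by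
          rw [hwv, hq2, he, wL, if_neg (by norm_num), he7]
          have : n ≠ 4 := fun h4 => h42 ⟨h4, hq2⟩
          omega)
      exact not_SCC_of_mul (by norm_num) h1 hvp' h37 (by norm_num) (by norm_num) (by norm_num)
    · have h33 : HasOrd (Matrix.ProjectiveSpecialLinearGroup (Fin n) F) (v * 3) :=
        hasOrd_mul hv (by norm_num) h3 (by
          have := wL_le_two (q := Fintype.card F) (s := 3) (by omega) (by rw [hq2])
          omega)
      exact not_SCC_of_mul hv.pos h1 hvp' h33 (by norm_num) (by norm_num) (by norm_num)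
  · obtain ⟨s, hs, hsd⟩ := Nat.exists_prime_and_dvd (show Fintype.card F - 1 ≠ 1 by omega)
    have hsv : v ≠ s := by
      rintro rfl
      exact hvq hsd
    have hsp : p ≠ s := by
      rintro rfl
      exact not_dvd_of_dvd_sub hs hq1.le hpq hsd
    have h3 : HasOrd (Matrix.ProjectiveSpecialLinearGroup (Fin n) F) (v * s) :=
      hasOrd_mul hv hs hsv (by rw [hwv, wL, if_pos (Or.inr hsd)]; exact h)
    exact not_SCC_of_mul hv.pos h1 hvp' h3 hp.out.one_lt.ne' hs.one_lt.ne' hsp

/-- **the primes dividing `q - 1`, `n ≥ 4`** -/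
theorem three_one {p v : ℕ} [hp : Fact p.Prime] [CharP F p] (hv : v.Prime) (hn : 4 ≤ n)
    (hvq : v ∣ Fintype.card F - 1) (hd : v ∣ Nat.card (Matrix.ProjectiveSpecialLinearGroup (Fin n) F)) :
    ¬ SCC (Matrix.ProjectiveSpecialLinearGroup (Fin n) F) v := by
  have hq1 : 1 < Fintype.card F := Fintype.one_lt_card
  have hpq := p_dvd (F := F) p
  have hwv : wL (Fintype.card F) v = 2 := by rw [wL, if_pos (Or.inr hvq)]
  have hvp : v ≠ p := by
    rintro rfl
    exact not_dvd_of_dvd_sub hv hq1.le hpq hvq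
  have h1 := hasOrd_prime hv hd
  have hvp' : HasOrd (Matrix.ProjectiveSpecialLinearGroup (Fin n) F) (v * p) :=
    hasOrd_mul hv hp.out hvp (by rw [hwv, wL_p p]; exact hn)
  by_cases hv2 : v = 2
  · subst hv2
    have h2 : HasOrd (Matrix.ProjectiveSpecialLinearGroup (Fin n) F) (Fintype.card F + 1) :=
      exists_order_of_block_lt (hasBlock_gs (a := 2) (by norm_num)) (by omega) _ (by
        simp [gs, Finset.sum_range_succ, add_comm])
    refine not_SCC_of_ords h1 hvp' h2 dvd_rfl (dvd_mul_right _ _) ?_ ?_ ?_ ?_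
    · omega
    · have := hp.out.two_le
      omega
    · omega
    · intro h
      have h3 : p ∣ Fintype.card F + 1 := by rw [← h]; exact dvd_mul_left _ _
      exact not_dvd_of_dvd_add hp.out hpq h3
  · obtain ⟨s, hs, hsd⟩ := Nat.exists_prime_and_dvd (show Fintype.card F + 1 ≠ 1 by omega)
    have hsv : v ≠ s := by
      rintro rfl
      apply hv2
      have h3 := Nat.dvd_sub hsd hvq
      rw [show Fintype.card F + 1 - (Fintype.card F - 1) = 2 by omega] at h3
      exact (Nat.prime_dvd_prime_iff_eq hv Nat.prime_two).1 h3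
    have hsp : p ≠ s := by
      rintro rfl
      exact not_dvd_of_dvd_add hs hpq hsd
    have h3 : HasOrd (Matrix.ProjectiveSpecialLinearGroup (Fin n) F) (v * s) :=
      hasOrd_mul hv hs hsv (by
        have := wL_le_two (q := Fintype.card F) (s := s) (by omega) hsd
        omega)
    exact not_SCC_of_mul hv.pos h1 hvp' h3 hp.out.one_lt.ne' hs.one_lt.ne' hsp

theorem hasOrd_p (p : ℕ) [hp : Fact p.Prime] [CharP F p] (hn : 3 ≤ n) :
    HasOrd (Matrix.ProjectiveSpecialLinearGroup (Fin n) F) p :=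
  exists_order_of_block_lt (hasBlock_char p) (by omega) _ dvd_rfl

/-- **the characteristic, `n ≥ 4`** -/
theorem three_char (p : ℕ) [hp : Fact p.Prime] [CharP F p] (hn : 4 ≤ n) (h42 : ¬ (n = 4 ∧ Fintype.card F = 2)) :
    ¬ SCC (Matrix.ProjectiveSpecialLinearGroup (Fin n) F) p := by
  have hq1 : 1 < Fintype.card F := Fintype.one_lt_card
  have hpq := p_dvd (F := F) p
  have h1 := hasOrd_p (F := F) (n := n) p (by omega)
  have hgs2 : gs (Fintype.card F) 2 = Fintype.card F + 1 := by simp [gs, Finset.sum_range_succ, add_comm]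
  have hco : ∀ a : ℕ, 1 ≤ a → Nat.Coprime p (gs (Fintype.card F) a) := by
    intro a ha
    refine (Nat.Prime.coprime_iff_not_dvd hp.out).2 fun h => ?_
    obtain ⟨b, rfl⟩ : ∃ b, a = b + 1 := ⟨a - 1, by omega⟩
    rw [gs_succ] at h
    exact not_dvd_of_dvd_add hp.out (hpq.mul_right _) h
  have h2 : HasOrd (Matrix.ProjectiveSpecialLinearGroup (Fin n) F) (p * gs (Fintype.card F) 2) :=
    exists_order_of_blocks (hasBlock_char p) (hasBlock_gs (by norm_num)) (by norm_num) (by norm_num) (by omega)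
      (hco 2 (by norm_num)) _ dvd_rfl
  rcases Nat.lt_or_ge (Fintype.card F) 3 with hq | hq
  · have hq2 : Fintype.card F = 2 := by omega
    have h3 : HasOrd (Matrix.ProjectiveSpecialLinearGroup (Fin n) F) (p * gs (Fintype.card F) 3) :=
      exists_order_of_blocks (hasBlock_char p) (hasBlock_gs (by norm_num)) (by norm_num) (by norm_num)
        (by
          have : n ≠ 4 := fun h4 => h42 ⟨h4, hq2⟩
          omega) (hco 3 (by norm_num)) _ dvd_rfl
    refine not_SCC_of_mul hp.out.pos h1 h2 h3 ?_ ?_ ?_ <;> rw [hq2] <;> decide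
  · have h3 : HasOrd (Matrix.ProjectiveSpecialLinearGroup (Fin n) F) (p * (Fintype.card F - 1)) :=
      exists_order_of_blocks (hasBlock_char p) (hasBlock_two dvd_rfl) (by norm_num) (by norm_num) (by omega)
      ((Nat.Prime.coprime_iff_not_dvd hp.out).2 (not_dvd_of_dvd_sub hp.out hq1.le hpq)) _ dvd_rfl
    refine not_SCC_of_mul hp.out.pos h1 h2 h3 ?_ ?_ ?_ <;> omega

end Cfsg.Agent.H205.DerPsl
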