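import Cfsg.Agent.H205.Der.PslComp
import Cfsg.Agent.H205.Der.PslA

/-!
# `n = 3`: three classes of elements of order divisible by `v` (helper205, S3502)
-/

set_option autoImplicit false

namespace Cfsg.Agent.H205.DerPsl

open Matrix Cfsg.Agent.H72 Cfsg.Agent.H72.AdjPSL Cfsg.Agent.H72.AdjOrth Cfsg.Agent.H39.DerPsl Cfsg.Agent.H439.Der
  Cfsg.Agent.ClassicalGeometry.AutPSL.Root Cfsg.Agent.ClassicalGeometry.AutPSL.Auto Cfsg.Agent.H199.PslAut

variable {F : Type*} [Field F] [Fintype F] {n : ℕ}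

theorem eq_one_of_center' {v : ℕ} (hn : 1 ≤ n) (hco : Nat.Coprime v (Nat.gcd n (Fintype.card F - 1)))
    {z : Matrix.SpecialLinearGroup (Fin n) F} (hz : z ∈ Subgroup.center (Matrix.SpecialLinearGroup (Fin n) F))
    (hv : z ^ v = 1) : z = 1 := by
  have h1 := smul_pow_gcd hn hz
  have h2 : orderOf z ∣ 1 := by
    rw [← hco]
    exact Nat.dvd_gcd (orderOf_dvd_of_pow_eq_one hv) (orderOf_dvd_of_pow_eq_one h1)
  exact orderOf_eq_one_iff.1 (Nat.dvd_one.1 h2)

theorem eq_of_pr_eq' {v : ℕ} (hn : 1 ≤ n) (hco : Nat.Coprime v (Nat.gcd n (Fintype.card F - 1)))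
    {x y : Matrix.SpecialLinearGroup (Fin n) F} (hx : x ^ v = 1) (hy : y ^ v = 1) (h : pr x = pr y) : x = y := by
  have hz : x⁻¹ * y ∈ Subgroup.center (Matrix.SpecialLinearGroup (Fin n) F) := by
    rw [← pr_eq_one_iff, map_mul, map_inv, h, inv_mul_cancel]
  have h1 : (x⁻¹ * y) ^ v = 1 := by
    have hc : Commute x (x⁻¹ * y) := (Subgroup.mem_center_iff.1 hz x)
    have h2 : (x * (x⁻¹ * y)) ^ v = x ^ v * (x⁻¹ * y) ^ v := hc.mul_pow v
    rw [mul_inv_cancel_left, hx, hy, one_mul] at h2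
    exact h2.symm
  have h3 := eq_one_of_center' hn hco hz h1
  exact (inv_mul_eq_one.1 h3)

/-- **elements of order prime to the centre, conjugate under an automorphism** -/
theorem sl_of_aut {v : ℕ} (hn : 2 ≤ n) (hco : Nat.Coprime v (Nat.gcd n (Fintype.card F - 1)))
    {x y : Matrix.SpecialLinearGroup (Fin n) F} (hx : x ^ v = 1) (hy : y ^ v = 1)
    (φ : MulAut (Matrix.ProjectiveSpecialLinearGroup (Fin n) F)) (h : φ (pr x) = pr y) :
    ∃ (g : GL (Fin n) F) (σ : F ≃+* F), y = cj g (fld σ x) ∨ y = cj g (fld σ (itr x)) := by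
  rcases exists_form hn φ with ⟨g, σ, rfl⟩ | ⟨-, g, σ, rfl⟩
  · refine ⟨g, σ, Or.inl ?_⟩
    have h1 : pr (cj g (fld σ x)) = pr y := h
    exact (eq_of_pr_eq' (by omega) hco (by rw [← map_pow, ← map_pow, hx, map_one, map_one]) hy h1).symm
  · refine ⟨g, σ, Or.inr ?_⟩
    have h1 : pr (cj g (fld σ (itr x))) = pr y := h
    exact (eq_of_pr_eq' (by omega) hco (by rw [← map_pow, ← map_pow, ← map_pow, hx, map_one, map_one, map_one]) hy
      h1).symm

/-- the squares of `x - 1` -/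
theorem sq_of_aut {v : ℕ} (hn : 2 ≤ n) (hco : Nat.Coprime v (Nat.gcd n (Fintype.card F - 1)))
    {x y : Matrix.SpecialLinearGroup (Fin n) F} (hx : x ^ v = 1) (hy : y ^ v = 1)
    (φ : MulAut (Matrix.ProjectiveSpecialLinearGroup (Fin n) F)) (h : φ (pr x) = pr y)
    (hsq : ((x : Matrix (Fin n) (Fin n) F) - 1) ^ 2 = 0) : ((y : Matrix (Fin n) (Fin n) F) - 1) ^ 2 = 0 := by
  have key : ∀ (g : GL (Fin n) F) (σ : F ≃+* F) (z : Matrix.SpecialLinearGroup (Fin n) F),
      ((z : Matrix (Fin n) (Fin n) F) - 1) ^ 2 = 0 →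
      (((cj g (fld σ z) : Matrix.SpecialLinearGroup (Fin n) F) : Matrix (Fin n) (Fin n) F) - 1) ^ 2 = 0 := by
    intro g σ z hz
    have h1 : ((cj g (fld σ z) : Matrix.SpecialLinearGroup (Fin n) F) : Matrix (Fin n) (Fin n) F) =
        (g : Matrix (Fin n) (Fin n) F) * (z : Matrix (Fin n) (Fin n) F).map σ *
          ((g⁻¹ : GL (Fin n) F) : Matrix (Fin n) (Fin n) F) := rfl
    have h2 : ((z : Matrix (Fin n) (Fin n) F).map σ - 1) ^ 2 = 0 := by
      have h3 := congrArg (σ : F →+* F).mapMatrix hz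
      rw [map_pow, map_sub, map_one, map_zero] at h3
      exact h3
    have h4 : (g : Matrix (Fin n) (Fin n) F) * ((g⁻¹ : GL (Fin n) F) : Matrix (Fin n) (Fin n) F) = 1 := by
      rw [← Units.val_mul, mul_inv_cancel, Units.val_one]
    have h5 : ((g⁻¹ : GL (Fin n) F) : Matrix (Fin n) (Fin n) F) * (g : Matrix (Fin n) (Fin n) F) = 1 := by
      rw [← Units.val_mul, inv_mul_cancel, Units.val_one]
    have h6 : (g : Matrix (Fin n) (Fin n) F) * (z : Matrix (Fin n) (Fin n) F).map σ *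
          ((g⁻¹ : GL (Fin n) F) : Matrix (Fin n) (Fin n) F) - 1 =
          (g : Matrix (Fin n) (Fin n) F) * ((z : Matrix (Fin n) (Fin n) F).map σ - 1) *
          ((g⁻¹ : GL (Fin n) F) : Matrix (Fin n) (Fin n) F) := by
      rw [mul_sub, sub_mul, mul_one, h4]
    rw [h1, h6, pow_two]
    calc (g : Matrix (Fin n) (Fin n) F) * ((z : Matrix (Fin n) (Fin n) F).map σ - 1) *
          ((g⁻¹ : GL (Fin n) F) : Matrix (Fin n) (Fin n) F) *
          ((g : Matrix (Fin n) (Fin n) F) * ((z : Matrix (Fin n) (Fin n) F).map σ - 1) *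
          ((g⁻¹ : GL (Fin n) F) : Matrix (Fin n) (Fin n) F)) =
          (g : Matrix (Fin n) (Fin n) F) * (((z : Matrix (Fin n) (Fin n) F).map σ - 1) *
          (((g⁻¹ : GL (Fin n) F) : Matrix (Fin n) (Fin n) F) * (g : Matrix (Fin n) (Fin n) F)) *
          ((z : Matrix (Fin n) (Fin n) F).map σ - 1)) *
          ((g⁻¹ : GL (Fin n) F) : Matrix (Fin n) (Fin n) F) := by simp only [mul_assoc]
      _ = 0 := by rw [h5, mul_one, ← pow_two, h2, mul_zero, zero_mul]
  obtain ⟨g, σ, rfl | rfl⟩ := sl_of_aut hn hco hx hy φ h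
  · exact key g σ x hsq
  · apply key
    have h1 : ((itr x : Matrix.SpecialLinearGroup (Fin n) F) : Matrix (Fin n) (Fin n) F) =
        ((x⁻¹ : Matrix.SpecialLinearGroup (Fin n) F) : Matrix (Fin n) (Fin n) F)ᵀ := rfl
    have h2 : (x : Matrix (Fin n) (Fin n) F) * ((x⁻¹ : Matrix.SpecialLinearGroup (Fin n) F) : Matrix (Fin n) (Fin n) F)
        = 1 := by
      rw [← Matrix.SpecialLinearGroup.coe_mul, mul_inv_cancel, Matrix.SpecialLinearGroup.coe_one]
    have h3 : ((x⁻¹ : Matrix.SpecialLinearGroup (Fin n) F) : Matrix (Fin n) (Fin n) F) *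
        (x : Matrix (Fin n) (Fin n) F) = 1 := by
      rw [← Matrix.SpecialLinearGroup.coe_mul, inv_mul_cancel, Matrix.SpecialLinearGroup.coe_one]
    set X := (x : Matrix (Fin n) (Fin n) F) with hX
    set Y := ((x⁻¹ : Matrix.SpecialLinearGroup (Fin n) F) : Matrix (Fin n) (Fin n) F) with hY
    rw [h1]
    have h4 : (Yᵀ - 1) ^ 2 = ((Y - 1) ^ 2)ᵀ := by
      rw [Matrix.transpose_pow, Matrix.transpose_sub, Matrix.transpose_one]
    have h5 : (Y - 1) ^ 2 = Y * Y * (X - 1) ^ 2 := by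
      have h6 : (X - 1) ^ 2 = X * X - X - X + 1 := by noncomm_ring
      rw [h6]
      calc (Y - 1) ^ 2 = Y * Y - Y - Y + 1 := by noncomm_ring
        _ = Y * (Y * X) * X - Y * (Y * X) - Y * (Y * X) + Y * Y := by rw [h3, mul_one, h3]; abel
        _ = _ := by noncomm_ring
    rw [h4, h5, hsq, mul_zero, Matrix.transpose_zero]

/-- the eigenvalue `1` -/
theorem ev_one_of_aut {v : ℕ} (hn : 2 ≤ n) (hco : Nat.Coprime v (Nat.gcd n (Fintype.card F - 1)))
    {x y : Matrix.SpecialLinearGroup (Fin n) F} (hx : x ^ v = 1) (hy : y ^ v = 1)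
    (φ : MulAut (Matrix.ProjectiveSpecialLinearGroup (Fin n) F)) (h : φ (pr x) = pr y)
    (hsq : (1 : F) ∈ Ev F (y : Matrix (Fin n) (Fin n) F)) : (1 : F) ∈ Ev F (x : Matrix (Fin n) (Fin n) F) := by
  have key : ∀ (g : GL (Fin n) F) (σ : F ≃+* F) (z : Matrix.SpecialLinearGroup (Fin n) F),
      (1 : F) ∈ Ev F ((cj g (fld σ z) : Matrix.SpecialLinearGroup (Fin n) F) : Matrix (Fin n) (Fin n) F) →
      (1 : F) ∈ Ev F (z : Matrix (Fin n) (Fin n) F) := by
    intro g σ z hz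
    have h1 : ((cj g (fld σ z) : Matrix.SpecialLinearGroup (Fin n) F) : Matrix (Fin n) (Fin n) F) =
        (g : Matrix (Fin n) (Fin n) F) * (z : Matrix (Fin n) (Fin n) F).map σ *
          ((g⁻¹ : GL (Fin n) F) : Matrix (Fin n) (Fin n) F) := rfl
    rw [h1, ev_conj] at hz
    obtain ⟨μ, hμ, hμ1⟩ := ev_map (K := F) (σ := σ) (τ := (σ : F →+* F)) (fun a => rfl) σ.surjective hz
    have h2 : μ = 1 := by
      apply σ.injective
      rw [map_one]
      exact hμ1
    rwa [h2] at hμ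
  obtain ⟨g, σ, rfl | rfl⟩ := sl_of_aut hn hco hx hy φ h
  · exact key g σ x hsq
  · have h1 := key g σ _ hsq
    have h2 : ((itr x : Matrix.SpecialLinearGroup (Fin n) F) : Matrix (Fin n) (Fin n) F) =
        ((x⁻¹ : Matrix.SpecialLinearGroup (Fin n) F) : Matrix (Fin n) (Fin n) F)ᵀ := rfl
    rw [h2, ev_transpose] at h1
    have h3 := ev_inv h1
    rwa [inv_one] at h3

end Cfsg.Agent.H205.DerPsl
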