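import Cfsg.Agent.H205.Der.PslB

/-!
# `PSL_3(q)`: three classes of elements of order divisible by `v`, `v ∣ p (q ^ 2 - 1)` (helper205, S3502)
-/

set_option autoImplicit false

namespace Cfsg.Agent.H205.DerPsl

open Matrix Cfsg.Agent.H72 Cfsg.Agent.H72.AdjPSL Cfsg.Agent.H72.AdjOrth Cfsg.Agent.H39.DerPsl Cfsg.Agent.H439.Der
  Cfsg.Agent.ClassicalGeometry.AutPSL.Root Cfsg.Agent.ClassicalGeometry.AutPSL.Auto Cfsg.Agent.H199.PslAut

variable {F : Type*} [Field F] [Fintype F]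

/-- the regular unipotent element -/
def regU (F : Type*) [Field F] : Matrix.SpecialLinearGroup (Fin 3) F :=
  ⟨!![1, 1, 0; 0, 1, 1; 0, 0, 1], by rw [Matrix.det_fin_three]; simp⟩

/-- a transvection -/
def transU (F : Type*) [Field F] : Matrix.SpecialLinearGroup (Fin 3) F :=
  ⟨!![1, 1, 0; 0, 1, 0; 0, 0, 1], by rw [Matrix.det_fin_three]; simp⟩

omit [Fintype F] in
theorem coe_regU : (regU F : Matrix (Fin 3) (Fin 3) F) = !![1, 1, 0; 0, 1, 1; 0, 0, 1] := rfl

omit [Fintype F] in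
theorem coe_transU : (transU F : Matrix (Fin 3) (Fin 3) F) = !![1, 1, 0; 0, 1, 0; 0, 0, 1] := rfl

omit [Fintype F] in
theorem regU_pow (k : ℕ) : (!![1, 1, 0; 0, 1, 1; 0, 0, 1] : Matrix (Fin 3) (Fin 3) F) ^ k =
    !![1, (k : F), (Nat.choose k 2 : F); 0, 1, (k : F); 0, 0, 1] := by
  induction k with
  | zero => simp [Matrix.one_fin_three]
  | succ k ih =>
    rw [pow_succ, ih]
    ext i j
    fin_cases i <;> fin_cases j <;> simp [Matrix.mul_apply, Fin.sum_univ_three, Nat.choose_succ_succ] <;> ring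

omit [Fintype F] in
theorem transU_pow (k : ℕ) : (!![1, 1, 0; 0, 1, 0; 0, 0, 1] : Matrix (Fin 3) (Fin 3) F) ^ k =
    !![1, (k : F), 0; 0, 1, 0; 0, 0, 1] := by
  induction k with
  | zero => simp [Matrix.one_fin_three]
  | succ k ih =>
    rw [pow_succ, ih]
    ext i j
    fin_cases i <;> fin_cases j <;> simp [Matrix.mul_apply, Fin.sum_univ_three]; ring

theorem ord_of_pow {T : Type*} [Group T] {p : ℕ} (hp : p.Prime) {x : T} (h : x ^ p = 1) (h1 : x ≠ 1) : p ∣ orderOf x := by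
  have := Fact.mk hp
  rw [orderOf_eq_prime h h1]

/-- `p` odd -/
theorem three_p_odd (p : ℕ) [hp : Fact p.Prime] [CharP F p] (hp2 : p ≠ 2) :
    ¬ SCC (Matrix.ProjectiveSpecialLinearGroup (Fin 3) F) p := by
  have hq1 : 1 < Fintype.card F := Fintype.one_lt_card
  have hpq := p_dvd (F := F) p
  have hpd := not_dvd_of_dvd_sub hp.out hq1.le hpq
  have hcop : Nat.Coprime p (Fintype.card F - 1) := (Nat.Prime.coprime_iff_not_dvd hp.out).2 hpd
  have hco : Nat.Coprime p (Nat.gcd 3 (Fintype.card F - 1)) := hcop.coprime_dvd_right (Nat.gcd_dvd_right _ _)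
  have hp3 : 3 ≤ p := by
    have := hp.out.two_le
    omega
  have hch : p ∣ Nat.choose p 2 := hp.out.dvd_choose_self (by norm_num) (by omega)
  have hreg : (regU F) ^ p = 1 := by
    apply Subtype.ext
    rw [Matrix.SpecialLinearGroup.coe_pow, coe_regU, regU_pow, CharP.cast_eq_zero,
      (CharP.cast_eq_zero_iff F p _).2 hch, Matrix.SpecialLinearGroup.coe_one, Matrix.one_fin_three]
  have htr : (transU F) ^ p = 1 := by
    apply Subtype.ext
    rw [Matrix.SpecialLinearGroup.coe_pow, coe_transU, transU_pow, CharP.cast_eq_zero,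
      Matrix.SpecialLinearGroup.coe_one, Matrix.one_fin_three]
  have htsq : ((transU F : Matrix (Fin 3) (Fin 3) F) - 1) ^ 2 = 0 := by
    rw [coe_transU]
    ext i j
    fin_cases i <;> fin_cases j <;> simp [pow_two, Matrix.mul_apply, Fin.sum_univ_three]
  have hrsq : ((regU F : Matrix (Fin 3) (Fin 3) F) - 1) ^ 2 ≠ 0 := by
    intro h
    have h1 := congrFun (congrFun h 0) 2
    rw [coe_regU] at h1
    simp [pow_two, Matrix.mul_apply, Fin.sum_univ_three] at h1
  have hne1 : pr (transU F) ≠ 1 := by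
    intro h
    have h1 := eq_one_of_center' (by norm_num) hco ((pr_eq_one_iff _).1 h) htr
    have h2 := congrArg (fun M : Matrix.SpecialLinearGroup (Fin 3) F => (M : Matrix (Fin 3) (Fin 3) F) 0 1) h1
    simp [coe_transU] at h2
  have hne2 : pr (regU F) ≠ 1 := by
    intro h
    have h1 := eq_one_of_center' (by norm_num) hco ((pr_eq_one_iff _).1 h) hreg
    have h2 := congrArg (fun M : Matrix.SpecialLinearGroup (Fin 3) F => (M : Matrix (Fin 3) (Fin 3) F) 0 1) h1
    simp [coe_regU] at h2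
  obtain ⟨w, hw⟩ := exists_three_char (F := F) p
  have ho1 : orderOf (pr (transU F)) = p := orderOf_eq_prime (by rw [← map_pow, htr, map_one]) hne1
  have ho2 : orderOf (pr (regU F)) = p := orderOf_eq_prime (by rw [← map_pow, hreg, map_one]) hne2
  have hs : p * ((Fintype.card F - 1) / Nat.gcd 3 (Fintype.card F - 1)) ≠ p := by
    intro h1
    have h2 : (Fintype.card F - 1) / Nat.gcd 3 (Fintype.card F - 1) = 1 :=
      Nat.eq_of_mul_eq_mul_left hp.out.pos (by rw [mul_one]; exact h1)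
    have h3 : Fintype.card F - 1 = Nat.gcd 3 (Fintype.card F - 1) := by
      have := Nat.div_mul_cancel (Nat.gcd_dvd_right 3 (Fintype.card F - 1))
      rw [h2, one_mul] at this
      exact this.symm
    have h4 : Fintype.card F - 1 ∣ 3 := by
      conv_lhs => rw [h3]
      exact Nat.gcd_dvd_left _ _
    have h5 := (Nat.dvd_prime Nat.prime_three).1 h4
    have h6 : p ∣ 2 ^ 2 := by
      rcases h5 with h5 | h5
      · rw [show Fintype.card F = 2 by omega] at hpq
        exact hpq.trans (by norm_num)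
      · rw [show Fintype.card F = 4 by omega] at hpq
        exact hpq
    exact hp2 ((Nat.prime_dvd_prime_iff_eq hp.out Nat.prime_two).1 (hp.out.dvd_of_dvd_pow h6))
  refine not_SCC_of_three (x := pr (transU F)) (y := pr (regU F)) (z := w) (by rw [ho1]) (by rw [ho2])
    (by rw [hw]; exact dvd_mul_right _ _) ?_ ?_ ?_
  · intro φ hφ
    exact hrsq (sq_of_aut (by norm_num) hco htr hreg φ hφ htsq)
  · intro φ hφ
    apply hs
    rw [← hw, ← hφ, Cfsg.Agent.H938.Sax.orderOf_mulEquiv, ho1]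
  · intro φ hφ
    apply hs
    rw [← hw, ← hφ, Cfsg.Agent.H938.Sax.orderOf_mulEquiv, ho2]

/-- `s = (q - 1) / (3, q - 1) ≠ 1` -/
theorem s_ne_one {q : ℕ} (h2 : q ≠ 2) (h4 : q ≠ 4) (hq : 1 < q) : (q - 1) / Nat.gcd 3 (q - 1) ≠ 1 := by
  intro h
  have h3 : q - 1 = Nat.gcd 3 (q - 1) := by
    have := Nat.div_mul_cancel (Nat.gcd_dvd_right 3 (q - 1))
    rw [h, one_mul] at this
    exact this.symm
  have h4 : q - 1 ∣ 3 := by
    conv_lhs => rw [h3]
    exact Nat.gcd_dvd_left _ _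
  have h5 := (Nat.dvd_prime Nat.prime_three).1 h4
  omega

/-- order four in characteristic two -/
theorem hasOrd_four [CharP F 2] : HasOrd (Matrix.ProjectiveSpecialLinearGroup (Fin 3) F) 4 := by
  refine exists_order (!![1, 1, 0; 0, 1, 1; 0, 0, 1] : Matrix (Fin 3) (Fin 3) F) ?_ (N := 4) ?_ _ dvd_rfl
  · rw [Matrix.det_fin_three]
    simp
  · intro k c hk
    rw [regU_pow] at hk
    have h1 := congrFun (congrFun hk 0) 1
    have h2 := congrFun (congrFun hk 0) 2
    simp at h1 h2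
    have h3 : 2 ∣ k := (CharP.cast_eq_zero_iff F 2 k).1 h1
    have h4 : 2 ∣ k.choose 2 := (CharP.cast_eq_zero_iff F 2 _).1 h2
    obtain ⟨j, rfl⟩ := h3
    rw [Nat.choose_two_right, mul_assoc, Nat.mul_div_cancel_left _ (by norm_num)] at h4
    rcases Nat.eq_zero_or_pos j with rfl | hj
    · simp
    have h5 : ¬ 2 ∣ 2 * j - 1 := by omega
    have h6 := (Nat.prime_two.dvd_mul.1 h4).resolve_right h5
    obtain ⟨i, rfl⟩ := h6
    exact ⟨i, by ring⟩

/-- **the characteristic, `n = 3`** -/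
theorem three_char3 (p : ℕ) [hp : Fact p.Prime] [CharP F p] (h2 : Fintype.card F ≠ 2) (h4 : Fintype.card F ≠ 4) :
    ¬ SCC (Matrix.ProjectiveSpecialLinearGroup (Fin 3) F) p := by
  by_cases hp2 : p = 2
  · subst hp2
    have hq1 : 1 < Fintype.card F := Fintype.one_lt_card
    have hs := s_ne_one h2 h4 hq1
    have hpd := not_dvd_of_dvd_sub Nat.prime_two hq1.le (p_dvd (F := F) 2)
    have hs2 : ¬ 2 ∣ (Fintype.card F - 1) / Nat.gcd 3 (Fintype.card F - 1) := fun h =>
      hpd (h.trans (Nat.div_dvd_of_dvd (Nat.gcd_dvd_right _ _)))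
    refine not_SCC_of_mul (v := 2) (by norm_num) (hasOrd_p 2 le_rfl) (exists_three_char 2) (b := 2) hasOrd_four hs
      (by norm_num) ?_
    intro h
    exact hs2 (by rw [h])
  · exact three_p_odd p hp2

theorem gcd_three (x : ℕ) : Nat.gcd 3 x = 1 ∨ Nat.gcd 3 x = 3 := (Nat.dvd_prime Nat.prime_three).1 (Nat.gcd_dvd_left _ _)

/-- `(q ^ 2 - 1) / (3, q - 1) = s (q + 1)` -/
theorem tor3 (q : ℕ) (hq : 1 ≤ q) : (q ^ 2 - 1) / Nat.gcd 3 (q - 1) = (q - 1) / Nat.gcd 3 (q - 1) * (q + 1) := by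
  have h1 : q ^ 2 - 1 = (q - 1) * (q + 1) := by
    have := Nat.sq_sub_sq q 1
    rw [one_pow, mul_comm] at this
    exact this
  rw [h1, Nat.mul_comm (q - 1), Nat.mul_div_assoc _ (Nat.gcd_dvd_right _ _), mul_comm]

theorem hasOrd_tor3 : HasOrd (Matrix.ProjectiveSpecialLinearGroup (Fin 3) F)
    ((Fintype.card F - 1) / Nat.gcd 3 (Fintype.card F - 1) * (Fintype.card F + 1)) := by
  have h := exists_tor (F := F) (n := 3) (by norm_num)
  rw [tor3 _ Fintype.card_pos] at h
  exact h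

/-- **`v ∣ (q - 1) / (3, q - 1)`** -/
theorem three_s {v : ℕ} (hv : v.Prime)
    (hvs : v ∣ (Fintype.card F - 1) / Nat.gcd 3 (Fintype.card F - 1)) :
    ¬ SCC (Matrix.ProjectiveSpecialLinearGroup (Fin 3) F) v := by
  obtain ⟨p, hpc⟩ := CharP.exists F
  have hp : Fact p.Prime := ⟨CharP.char_is_prime F p⟩
  have hq1 : 1 < Fintype.card F := Fintype.one_lt_card
  have hpq := p_dvd (F := F) p
  have hpd := not_dvd_of_dvd_sub hp.out hq1.le hpq
  have hpd1 := not_dvd_of_dvd_add hp.out hpq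
  have hs1 : (Fintype.card F - 1) / Nat.gcd 3 (Fintype.card F - 1) ∣ Fintype.card F - 1 :=
    Nat.div_dvd_of_dvd (Nat.gcd_dvd_right _ _)
  have hvp : v ≠ p := by
    rintro rfl
    exact hpd (hvs.trans hs1)
  have hps : ¬ p ∣ (Fintype.card F - 1) / Nat.gcd 3 (Fintype.card F - 1) := fun h => hpd (h.trans hs1)
  have hs0 : (Fintype.card F - 1) / Nat.gcd 3 (Fintype.card F - 1) ≠ 0 := by
    intro h
    rw [h] at hps
    exact hps (dvd_zero _)
  have h2 := exists_three_char (F := F) p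
  have h3 := hasOrd_tor3 (F := F)
  have h1 : HasOrd (Matrix.ProjectiveSpecialLinearGroup (Fin 3) F) v :=
    HasOrd.dvd h3 (Nat.mul_ne_zero hs0 (by omega)) (hvs.mul_right _)
  refine not_SCC_of_ords h1 h2 h3 dvd_rfl (hvs.mul_left _) (hvs.mul_right _) ?_ ?_ ?_
  · intro h
    have h5 : p ∣ v := by rw [h]; exact dvd_mul_right _ _
    exact hvp ((Nat.prime_dvd_prime_iff_eq hp.out hv).1 h5).symm
  · intro h
    have h5 : v ≤ (Fintype.card F - 1) / Nat.gcd 3 (Fintype.card F - 1) := Nat.le_of_dvd (Nat.pos_of_ne_zero hs0) hvs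
    have h6 : 0 < v := hv.pos
    nlinarith
  · intro h
    have h5 : p ∣ (Fintype.card F - 1) / Nat.gcd 3 (Fintype.card F - 1) * (Fintype.card F + 1) := by
      rw [← h]
      exact dvd_mul_right _ _
    rcases hp.out.dvd_mul.1 h5 with h6 | h6
    · exact hps h6
    · exact hpd1 h6

/-- `2 ^ f - 1 = 3 m`, `m` prime -/
theorem sixteen {f m : ℕ} (hm : 2 ^ f - 1 = 3 * m) (hmp : m.Prime) : f = 4 := by
  have hf : Even f := by
    by_contra hodd
    rw [Nat.not_even_iff_odd] at hodd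
    obtain ⟨k, rfl⟩ := hodd
    have h1 : 2 ^ (2 * k + 1) % 3 = 2 := by
      rw [pow_succ, pow_mul, Nat.mul_mod, Nat.pow_mod]
      norm_num
    have h2 : 0 < 2 ^ (2 * k + 1) := by positivity
    generalize 2 ^ (2 * k + 1) = a at hm h1 h2
    omega
  obtain ⟨g, rfl⟩ := hf
  have h1 : 2 ^ (g + g) - 1 = (2 ^ g + 1) * (2 ^ g - 1) := by
    rw [pow_add, ← pow_two]
    have := Nat.sq_sub_sq (2 ^ g) 1
    simpa using this
  rw [h1] at hm
  by_contra hne
  have hm2 := hmp.two_le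
  have hg : g ≠ 0 := by
    rintro rfl
    norm_num at hm
    omega
  have hg1 : g ≠ 1 := by
    rintro rfl
    norm_num at hm
    omega
  have hg3 : 3 ≤ g := by omega
  have h8 : 2 ^ 3 ≤ 2 ^ g := Nat.pow_le_pow_right (by norm_num) hg3
  have h3 : 3 ∣ (2 ^ g + 1) * (2 ^ g - 1) := ⟨m, hm⟩
  rcases Nat.prime_three.dvd_mul.1 h3 with ⟨a, ha⟩ | ⟨a, ha⟩
  · rw [ha, mul_assoc] at hm
    have h4 : a * (2 ^ g - 1) = m := Nat.eq_of_mul_eq_mul_left (by norm_num) hm
    rw [← h4] at hmp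
    exact Nat.not_prime_mul (by omega) (by omega) hmp
  · rw [ha, mul_comm, mul_assoc] at hm
    have h4 : a * (2 ^ g + 1) = m := Nat.eq_of_mul_eq_mul_left (by norm_num) hm
    rw [← h4] at hmp
    exact Nat.not_prime_mul (by omega) (by omega) hmp

end Cfsg.Agent.H205.DerPsl
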