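import Cfsg.Agent.H39.Der.PslSC
import Cfsg.Agent.H439.Der.Three

/-!
# Semisimple elements of composite order in `PSL_n(q)` and automorphisms (helper205, S3502)

`x ∈ SL_n(q)` of order `N`, all primes `r ∣ N` with `ord_r(q) = e`, `N ∣ q ^ e - 1`, `N` prime to `q - 1`, `n < 2 e`:
if `x ^ k` is (modulo scalars) the image of `x` under an automorphism then `k ≡ ± p ^ m` modulo `N`.
So at most `2 e f` of the `φ(N)` generators of `⟨x⟩` are in one `Aut`-class.
-/

set_option autoImplicit false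

namespace Cfsg.Agent.H205.DerPsl

open Matrix Polynomial Cfsg.Agent.ClassicalGeometry.AutPSL.Root Cfsg.Agent.ClassicalGeometry.AutPSL.Auto
  Cfsg.Agent.H199.PslAut Cfsg.Agent.H39.DerPsl Cfsg.Agent.H439.Der

section spec

variable {F : Type*} [Field F] {n : ℕ} {K : Type*} [Field K] [Algebra F K]

theorem ev_pow_surj [IsAlgClosed K] {x : Matrix (Fin n) (Fin n) F} {m : ℕ} (hm : 0 < m) {ν : K}
    (h : ν ∈ Ev K (x ^ m)) : ∃ μ ∈ Ev K x, μ ^ m = ν := by
  rw [mem_ev_iff_spectrum, map_pow', spectrum.map_pow_of_pos _ hm] at h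
  obtain ⟨μ, hμ, h1⟩ := h
  exact ⟨μ, mem_ev_iff_spectrum.2 hμ, h1⟩

theorem orderOf_ev_dvd {N : ℕ} {x : Matrix (Fin n) (Fin n) F} (hx : x ^ N = 1) {μ : K} (h : μ ∈ Ev K x) :
    orderOf μ ∣ N := by
  apply orderOf_dvd_of_pow_eq_one
  have h1 := ev_pow h N
  rw [hx] at h1
  exact ev_one h1

/-- the eigenvalues different from `1` form one orbit of the Frobenius -/
theorem ev_orbit' [Fintype F] {N e : ℕ} (hN : 0 < N) (hNe : N ∣ Fintype.card F ^ e - 1)
    (hprim : ∀ r : ℕ, r.Prime → r ∣ N → orderOf ((Fintype.card F : ℕ) : ZMod r) = e)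
    {x : Matrix (Fin n) (Fin n) F} (hx : x ^ N = 1)
    (hdeg : n < 2 * e) {l μ : K} (hl : l ∈ Ev K x) (hl1 : l ≠ 1)
    (hμ : μ ∈ Ev K x) (hμ1 : μ ≠ 1) : ∃ i : ℕ, μ = l ^ (Fintype.card F ^ i) := by
  classical
  set q := Fintype.card F with hq
  have hq1 : 1 < q := Fintype.one_lt_card
  by_contra hcon
  push Not at hcon
  have hpow : ∀ (ν : K), ν ∈ Ev K x → ∀ i : ℕ, ν ^ (q ^ i) ∈ Ev K x := by
    intro ν hν i
    induction i with
    | zero => simpa using hν
    | succ i ih =>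
      rw [pow_succ q i, pow_mul]
      exact ev_frob ih
  have hinj : ∀ (ν : K), ν ∈ Ev K x → ν ≠ 1 → ∀ i < e, ∀ j < e, ν ^ (q ^ i) = ν ^ (q ^ j) → i = j := by
    intro ν hν hν1 i hi j hj hij
    have h1 := orderOf_ev_dvd hx hν
    have h2 : orderOf ν ≠ 1 := fun h => hν1 (orderOf_eq_one_iff.1 h)
    obtain ⟨r, hr, hrd⟩ := Nat.exists_prime_and_dvd h2
    have h3 : 0 < orderOf ν := Nat.pos_of_ne_zero fun h => by
      rw [h] at h1
      exact hN.ne' (Nat.eq_zero_of_zero_dvd h1)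
    rw [pow_eq_iff h3 rfl] at hij
    have h4 : ((q ^ i : ℕ) : ZMod r) = ((q ^ j : ℕ) : ZMod r) := by
      rw [ZMod.natCast_eq_natCast_iff] at hij ⊢
      exact hij.of_dvd hrd
    push_cast at h4
    have he := hprim r hr (hrd.trans h1)
    exact pow_injOn_Iio_orderOf (by rw [he]; exact hi) (by rw [he]; exact hj) h4
  have hfix : ∀ ν : K, ν ∈ Ev K x → ν ^ (q ^ e) = ν := by
    intro ν hν
    have h1 := (orderOf_ev_dvd hx hν).trans hNe
    have h2 : ν ^ (q ^ e - 1) = 1 := orderOf_dvd_iff_pow_eq_one.1 h1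
    have h3 : q ^ e = (q ^ e - 1) + 1 := by
      have : 1 ≤ q ^ e := Nat.one_le_pow _ _ (by omega)
      omega
    rw [h3, pow_succ, h2, one_mul]
  let R : Finset K := (x.charpoly.map (algebraMap F K)).roots.toFinset
  have hR : R.card ≤ n := by
    refine (Multiset.toFinset_card_le _).trans ((Polynomial.card_roots' _).trans ?_)
    rw [Polynomial.natDegree_map, Matrix.charpoly_natDegree_eq_dim, Fintype.card_fin]
  have hmem : ∀ ν : K, ν ∈ Ev K x → ν ∈ R := by
    intro ν hν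
    rw [Multiset.mem_toFinset, Polynomial.mem_roots ((Matrix.charpoly_monic x).map _).ne_zero,
      Polynomial.IsRoot.def, ← eval₂_eq_eval_map, ← aeval_def]
    exact hν
  let f : Bool × Fin e → K := fun a => cond a.1 (l ^ (q ^ (a.2 : ℕ))) (μ ^ (q ^ (a.2 : ℕ)))
  have hmix : ∀ i < e, ∀ j < e, l ^ (q ^ i) ≠ μ ^ (q ^ j) := by
    intro i hi j hj h
    refine hcon (i + (e - j)) ?_
    rw [pow_add q, pow_mul, h, ← pow_mul, ← pow_add, show j + (e - j) = e by omega]
    exact (hfix μ hμ).symm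
  have hf : Function.Injective f := by
    rintro ⟨a, i⟩ ⟨b, j⟩ h
    cases a <;> cases b
    · have h1 : μ ^ (q ^ (i : ℕ)) = μ ^ (q ^ (j : ℕ)) := h
      rw [Fin.ext (hinj μ hμ hμ1 i i.2 j j.2 h1)]
    · have h1 : μ ^ (q ^ (i : ℕ)) = l ^ (q ^ (j : ℕ)) := h
      exact absurd h1.symm (hmix j j.2 i i.2)
    · have h1 : l ^ (q ^ (i : ℕ)) = μ ^ (q ^ (j : ℕ)) := h
      exact absurd h1 (hmix i i.2 j j.2)
    · have h1 : l ^ (q ^ (i : ℕ)) = l ^ (q ^ (j : ℕ)) := h
      rw [Fin.ext (hinj l hl hl1 i i.2 j j.2 h1)]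
  have hcard : (Finset.univ : Finset (Bool × Fin e)).card ≤ R.card := by
    refine Finset.card_le_card_of_injOn f (fun a _ => ?_) hf.injOn
    apply hmem
    rcases a with ⟨a, i⟩
    cases a
    · exact hpow μ hμ i
    · exact hpow l hl i
  rw [Finset.card_univ, Fintype.card_prod, Fintype.card_bool, Fintype.card_fin] at hcard
  omega

end spec

variable {F : Type*} [Field F] {n : ℕ}

/-- **The exponent.** -/
theorem exp_of_aut' [Fintype F] (hn : 2 ≤ n) {p : ℕ} [hp : Fact p.Prime] [CharP F p]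
    {N e : ℕ} (hN : 1 < N) (hNp : Nat.Coprime N p) (hco : Nat.Coprime N (Fintype.card F - 1))
    (hNe : N ∣ Fintype.card F ^ e - 1)
    (hprim : ∀ r : ℕ, r.Prime → r ∣ N → orderOf ((Fintype.card F : ℕ) : ZMod r) = e)
    (hdeg : n < 2 * e) {x : Matrix.SpecialLinearGroup (Fin n) F} (hx : orderOf x = N)
    {k : ℕ} (hk : Nat.Coprime k N) (φ : MulAut (Matrix.ProjectiveSpecialLinearGroup (Fin n) F))
    (hφ : φ (pr x) = pr x ^ k) :
    ∃ m : ℕ, (k : ZMod N) = (p : ZMod N) ^ m ∨ (k : ZMod N) = - (p : ZMod N) ^ m := by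
  have hN0 : 0 < N := by omega
  let K := AlgebraicClosure F
  have hcK : CharP K p := charP_of_injective_algebraMap (algebraMap F K).injective p
  obtain ⟨f, -, hqf⟩ := FiniteField.card F p
  have hxN : (x : Matrix (Fin n) (Fin n) F) ^ N = 1 := by
    have h1 : x ^ N = 1 := by rw [← hx, pow_orderOf_eq_one]
    have := congrArg Subtype.val h1
    simpa using this
  have hx1 : (x : Matrix (Fin n) (Fin n) F) ≠ 1 := by
    intro h
    have h1 : x = 1 := Subtype.ext h
    rw [h1, orderOf_one] at hx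
    omega
  obtain ⟨l, hl, hl1⟩ := exists_ev_ne_one (K := K) hNp hxN hx1
  -- the order of `l`
  have hol : orderOf l = N := by
    have h1 := orderOf_ev_dvd hxN hl
    have h2 : 0 < orderOf l := Nat.pos_of_dvd_of_pos h1 hN0
    have h3 : (x : Matrix (Fin n) (Fin n) F) ^ orderOf l = 1 := by
      by_contra hne
      have h4 : ((x : Matrix (Fin n) (Fin n) F) ^ orderOf l) ^ N = 1 := by
        rw [← pow_mul, mul_comm, pow_mul, hxN, one_pow]
      obtain ⟨ν, hν, hν1⟩ := exists_ev_ne_one (K := K) hNp h4 hne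
      obtain ⟨μ, hμ, rfl⟩ := ev_pow_surj h2 hν
      apply hν1
      by_cases hμ1 : μ = 1
      · rw [hμ1, one_pow]
      · obtain ⟨i, rfl⟩ := ev_orbit' hN0 hNe hprim hxN hdeg hl hl1 hμ hμ1
        rw [← pow_mul, mul_comm, pow_mul, pow_orderOf_eq_one, one_pow]
    have h5 : x ^ orderOf l = 1 := by
      apply Subtype.ext
      simpa using h3
    have h6 := orderOf_dvd_of_pow_eq_one h5
    rw [hx] at h6
    exact Nat.dvd_antisymm h1 h6
  -- the automorphisms
  have main : ∀ (g : GL (Fin n) F) (σ : F ≃+* F) (y : Matrix.SpecialLinearGroup (Fin n) F), y ^ N = 1 →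
      Psi n F g (phi n F σ (pr y)) = pr x ^ k →
      ∃ j : ℕ, ∃ μ ∈ Ev K (y : Matrix (Fin n) (Fin n) F), μ ^ p ^ j = l ^ k := by
    intro g σ y hy h
    rw [phi_pr, Psi_pr, ← map_pow] at h
    have h1 : cj g (fld σ y) = x ^ k := by
      refine eq_of_pr_eq (by omega) hco ?_ ?_ h
      · rw [← map_pow, ← map_pow, hy, map_one, map_one]
      · rw [← pow_mul, mul_comm, pow_mul, ← hx, pow_orderOf_eq_one, one_pow]
    obtain ⟨j, hj⟩ := exists_frob (p := p) σ
    have h2 : l ^ k ∈ Ev K ((y : Matrix (Fin n) (Fin n) F).map σ) := by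
      have h3 := ev_pow hl k
      have h4 : (x : Matrix (Fin n) (Fin n) F) ^ k = (g : Matrix (Fin n) (Fin n) F) *
          (y : Matrix (Fin n) (Fin n) F).map σ * ((g⁻¹ : GL (Fin n) F) : Matrix (Fin n) (Fin n) F) := by
        rw [← Matrix.SpecialLinearGroup.coe_pow, ← h1]
        rfl
      rw [h4, ev_conj] at h3
      exact h3
    obtain ⟨μ, hμ, hμ2⟩ := ev_map (K := K) (σ := σ) (τ := iterateFrobenius K p j)
      (fun a => by rw [iterateFrobenius_def, hj, map_pow]) (bijective_iterateFrobenius (R := K) (p := p) (n := j)).2 h2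
    exact ⟨j, μ, hμ, by rw [← hμ2, iterateFrobenius_def]⟩
  have hxg : x ^ N = 1 := by rw [← hx, pow_orderOf_eq_one]
  have hlk : l ^ k ≠ 1 := by
    intro h
    have h1 := orderOf_dvd_of_pow_eq_one h
    rw [hol] at h1
    have h2 : N ∣ 1 := by
      rw [← hk.symm]
      exact Nat.dvd_gcd dvd_rfl h1
    exact hN.ne' (Nat.dvd_one.1 h2)
  rcases exists_form hn φ with ⟨g, σ, rfl⟩ | ⟨-, g, σ, rfl⟩
  · obtain ⟨j, μ, hμ, h⟩ := main g σ x hxg hφ
    have hμ1 : μ ≠ 1 := by
      rintro rfl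
      rw [one_pow] at h
      exact hlk h.symm
    obtain ⟨i, rfl⟩ := ev_orbit' hN0 hNe hprim hxN hdeg hl hl1 hμ hμ1
    rw [← pow_mul, pow_eq_iff hN0 hol, hqf] at h
    refine ⟨f * i + j, Or.inl ?_⟩
    rw [← h]
    push_cast
    rw [← pow_mul, ← pow_add]
  · obtain ⟨j, μ, hμ, h⟩ := main g σ (itr x) (by rw [← map_pow, hxg, map_one]) hφ
    have h1 : ((itr x : Matrix.SpecialLinearGroup (Fin n) F) : Matrix (Fin n) (Fin n) F) =
        ((x⁻¹ : Matrix.SpecialLinearGroup (Fin n) F) : Matrix (Fin n) (Fin n) F)ᵀ := rfl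
    rw [h1, ev_transpose] at hμ
    have hμ' := ev_inv hμ
    have hl0 : l ≠ 0 := by
      rintro rfl
      have h1 : (0 : K) ^ N = 1 := by rw [← hol, pow_orderOf_eq_one]
      rw [zero_pow hN0.ne'] at h1
      exact zero_ne_one h1
    have hμ1 : μ⁻¹ ≠ 1 := by
      intro h0
      rw [inv_eq_one] at h0
      subst h0
      rw [one_pow] at h
      exact hlk h.symm
    obtain ⟨i, hi⟩ := ev_orbit' hN0 hNe hprim hxN hdeg hl hl1 hμ' hμ1
    have h3 : l ^ (k + Fintype.card F ^ i * p ^ j) = l ^ 0 := by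
      rw [pow_zero, pow_add, ← h, pow_mul, ← hi, inv_pow, mul_inv_cancel₀]
      exact pow_ne_zero _ (by rintro rfl; rw [_root_.inv_zero] at hi; exact pow_ne_zero _ hl0 hi.symm)
    rw [pow_eq_iff hN0 hol, hqf] at h3
    refine ⟨f * i + j, Or.inr ?_⟩
    push_cast at h3
    rw [← pow_mul, ← pow_add] at h3
    exact eq_neg_of_add_eq_zero_left h3

/-- the elements `± p ^ m` of `ZMod N` -/
def PM (p N : ℕ) : Set (ZMod N) := {k | ∃ m : ℕ, k = (p : ZMod N) ^ m ∨ k = - (p : ZMod N) ^ m}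

theorem pow_mod {p N T : ℕ} (h : (p : ZMod N) ^ T = 1) (m : ℕ) : (p : ZMod N) ^ m = (p : ZMod N) ^ (m % T) := by
  conv_lhs => rw [← Nat.div_add_mod m T, pow_add, pow_mul, h, one_pow, one_mul]

theorem card_pm_le {p N T : ℕ} [NeZero N] (hT : 0 < T) (h : (p : ZMod N) ^ T = 1) : (PM p N).ncard ≤ 2 * T := by
  classical
  have h1 : PM p N ⊆ ((Finset.univ : Finset (Bool × Fin T)).image fun a =>
      cond a.1 ((p : ZMod N) ^ (a.2 : ℕ)) (- (p : ZMod N) ^ (a.2 : ℕ)) : Finset (ZMod N)) := by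
    rintro k ⟨m, hk | hk⟩
    · rw [Finset.coe_image]
      exact ⟨(true, ⟨m % T, Nat.mod_lt _ hT⟩), Finset.mem_coe.2 (Finset.mem_univ _), by
        rw [hk, pow_mod h m]; rfl⟩
    · rw [Finset.coe_image]
      exact ⟨(false, ⟨m % T, Nat.mod_lt _ hT⟩), Finset.mem_coe.2 (Finset.mem_univ _), by
        rw [hk, pow_mod h m]; rfl⟩
  refine (Set.ncard_le_ncard h1 (Finset.finite_toSet _)).trans ?_
  rw [Set.ncard_coe_finset]
  refine Finset.card_image_le.trans ?_
  rw [Finset.card_univ, Fintype.card_prod, Fintype.card_bool, Fintype.card_fin]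

/-- with `-1` a power of `p` -/
theorem card_pm_le' {p N T s : ℕ} [NeZero N] (hT : 0 < T) (h : (p : ZMod N) ^ T = 1) (hs : (p : ZMod N) ^ s = -1) :
    (PM p N).ncard ≤ T := by
  classical
  have h1 : PM p N ⊆ ((Finset.univ : Finset (Fin T)).image (fun a : Fin T => ((p : ZMod N) ^ (a : ℕ))) :
      Finset (ZMod N)) := by
    rintro k ⟨m, hk | hk⟩
    · rw [Finset.coe_image]
      exact ⟨⟨m % T, Nat.mod_lt _ hT⟩, Finset.mem_coe.2 (Finset.mem_univ _), by
        rw [hk, pow_mod h m]⟩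
    · rw [Finset.coe_image]
      refine ⟨⟨(s + m) % T, Nat.mod_lt _ hT⟩, Finset.mem_coe.2 (Finset.mem_univ _), ?_⟩
      show (p : ZMod N) ^ ((s + m) % T) = k
      rw [hk, ← pow_mod h, pow_add, hs, neg_one_mul]
  refine (Set.ncard_le_ncard h1 (Finset.finite_toSet _)).trans ?_
  rw [Set.ncard_coe_finset]
  refine Finset.card_image_le.trans ?_
  rw [Finset.card_univ, Fintype.card_fin]

/-- **The size of the classes**: a set `S` of units `k` modulo `N` such that all `x ^ k` are in one `Aut`-class. -/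
theorem card_class_le [Fintype F] (hn : 2 ≤ n) {p : ℕ} [hp : Fact p.Prime] [CharP F p]
    {N e : ℕ} (hN : 1 < N) (hNp : Nat.Coprime N p) (hco : Nat.Coprime N (Fintype.card F - 1))
    (hNe : N ∣ Fintype.card F ^ e - 1)
    (hprim : ∀ r : ℕ, r.Prime → r ∣ N → orderOf ((Fintype.card F : ℕ) : ZMod r) = e)
    (hdeg : n < 2 * e) {x : Matrix.SpecialLinearGroup (Fin n) F} (hx : orderOf x = N)
    (S : Finset ℕ) (hS : ∀ k ∈ S, k < N ∧ Nat.Coprime k N) (a : Matrix.ProjectiveSpecialLinearGroup (Fin n) F)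
    (ha : ∀ k ∈ S, ∃ φ : Matrix.ProjectiveSpecialLinearGroup (Fin n) F ≃* Matrix.ProjectiveSpecialLinearGroup (Fin n) F,
      φ a = pr x ^ k) : S.card ≤ (PM p N).ncard := by
  classical
  have hN0 : 0 < N := by omega
  have : NeZero N := ⟨hN0.ne'⟩
  rcases S.eq_empty_or_nonempty with rfl | ⟨k₀, hk₀⟩
  · simp
  obtain ⟨hk₀N, hk₀c⟩ := hS k₀ hk₀
  obtain ⟨φ₀, hφ₀⟩ := ha k₀ hk₀
  -- the inverse of `k₀`
  let u : (ZMod N)ˣ := ZMod.unitOfCoprime k₀ hk₀c
  let i₀ : ℕ := ((u⁻¹ : (ZMod N)ˣ) : ZMod N).val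
  have hi₀ : (i₀ : ZMod N) = ((u⁻¹ : (ZMod N)ˣ) : ZMod N) := ZMod.natCast_zmod_val _
  have hu : ((u : (ZMod N)ˣ) : ZMod N) = k₀ := ZMod.coe_unitOfCoprime k₀ hk₀c
  have hi₀c : Nat.Coprime i₀ N := by
    have h1 : IsUnit (i₀ : ZMod N) := by rw [hi₀]; exact Units.isUnit _
    exact (ZMod.isUnit_iff_coprime i₀ N).1 h1
  have hki : (((k₀ * i₀ : ℕ)) : ZMod N) = 1 := by
    push_cast
    rw [hi₀, ← hu, Units.mul_inv]
  -- the element `y = x ^ k₀`
  have hy : orderOf (x ^ k₀) = N := by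
    rw [Nat.Coprime.orderOf_pow (by rw [hx]; exact hk₀c.symm), hx]
  have hxk : ∀ k : ℕ, x ^ k = (x ^ k₀) ^ (i₀ * k) := by
    intro k
    rw [← pow_mul, pow_eq_pow_iff_modEq, hx, ← ZMod.natCast_eq_natCast_iff]
    push_cast
    have := hki
    push_cast at this
    rw [← mul_assoc, this, one_mul]
  rw [Set.ncard_eq_toFinset_card (PM p N)]
  refine Finset.card_le_card_of_injOn (fun k : ℕ => (i₀ : ZMod N) * (k : ZMod N)) ?_ ?_
  · intro k hk
    have hk' : k ∈ S := hk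
    obtain ⟨φ, hφ⟩ := ha k hk'
    rw [Finset.mem_coe, Set.Finite.mem_toFinset]
    show (i₀ : ZMod N) * (k : ZMod N) ∈ PM p N
    have e1 : pr (x ^ k₀) = φ₀ a := by rw [map_pow, hφ₀]
    have e2 : pr (x ^ k₀) ^ (i₀ * k) = φ a := by rw [← map_pow, ← hxk, map_pow, hφ]
    have h1 : (φ₀.symm.trans φ) (pr (x ^ k₀)) = pr (x ^ k₀) ^ (i₀ * k) := by
      rw [e2, e1, MulEquiv.trans_apply, MulEquiv.symm_apply_apply]
    have h2 : Nat.Coprime (i₀ * k) N := Nat.Coprime.mul_left hi₀c (hS k hk').2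
    obtain ⟨m, hm⟩ := exp_of_aut' hn hN hNp hco hNe hprim hdeg hy h2 _ h1
    refine ⟨m, ?_⟩
    push_cast at hm
    exact hm
  · intro k hk k' hk' hkk
    have h1 : (i₀ : ZMod N) * (k : ZMod N) = (i₀ : ZMod N) * (k' : ZMod N) := hkk
    have h2 : (k : ZMod N) = (k' : ZMod N) := by
      rw [hi₀] at h1
      exact (Units.mul_right_inj u⁻¹).1 h1
    rw [ZMod.natCast_eq_natCast_iff] at h2
    exact Nat.ModEq.eq_of_lt_of_lt h2 (hS k hk).1 (hS k' hk').1

/-- the hypotheses on the element -/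
structure Elt (F : Type*) [Field F] [Fintype F] (n p N e : ℕ) : Prop where
  n2 : 2 ≤ n
  N1 : 1 < N
  cop : Nat.Coprime N p
  coq : Nat.Coprime N (Fintype.card F - 1)
  dvd : N ∣ Fintype.card F ^ e - 1
  prim : ∀ r : ℕ, r.Prime → r ∣ N → orderOf ((Fintype.card F : ℕ) : ZMod r) = e
  deg : n < 2 * e
  len : e ≤ n

/-- there is an element of order `N` in `SL_n(q)` -/
theorem Elt.exists_sl [Fintype F] {p N e : ℕ} (h : Elt F n p N e) :
    ∃ x : Matrix.SpecialLinearGroup (Fin n) F, orderOf x = N := by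
  classical
  have he : e ≠ 0 := by have := h.deg; omega
  obtain ⟨A, hA1, hA2, hA3⟩ := Cfsg.Agent.H72.AdjPSL.hasBlock_singer (F := F) he h.dvd h.coq
  obtain ⟨c, hc⟩ : ∃ c, n = e + c := ⟨n - e, by have := h.len; omega⟩
  let e' : Fin n ≃ Fin e ⊕ Fin c := (finCongr hc).trans finSumFinEquiv.symm
  have hs : ∀ (M : Matrix (Fin e ⊕ Fin c) (Fin e ⊕ Fin c) F) (k : ℕ),
      (M.submatrix e' e') ^ k = (M ^ k).submatrix e' e' := by
    intro M k
    induction k with
    | zero => rw [pow_zero, pow_zero, Matrix.submatrix_one_equiv]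
    | succ k ih => rw [pow_succ, ih, Matrix.submatrix_mul_equiv, ← pow_succ]
  let y : Matrix.SpecialLinearGroup (Fin n) F := ⟨(fromBlocks A 0 0 1).submatrix e' e', by
    rw [Matrix.det_submatrix_equiv_self, Matrix.det_fromBlocks_zero₂₁, hA1, Matrix.det_one, one_mul]⟩
  have hyp : ∀ m : ℕ, ((y ^ m : Matrix.SpecialLinearGroup (Fin n) F) : Matrix (Fin n) (Fin n) F) =
      ((fromBlocks A 0 0 1).submatrix e' e') ^ m := fun m => Matrix.SpecialLinearGroup.coe_pow y m
  refine ⟨y, ?_⟩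
  · refine (orderOf_eq_iff (by have := h.N1; omega)).2 ⟨?_, ?_⟩
    · apply Subtype.ext
      refine (hyp N).trans ?_
      rw [hs, Cfsg.Agent.H72.AdjPSU.fromBlocks_pow, hA2, one_pow, Matrix.fromBlocks_one, Matrix.submatrix_one_equiv]
      rfl
    · intro m hm hm0 hx
      have h2 : ((fromBlocks A 0 0 1).submatrix e' e') ^ m = 1 := by
        rw [← hyp m, hx]
        rfl
      rw [hs, Cfsg.Agent.H72.AdjPSU.fromBlocks_pow] at h2
      have h3 := congrArg (fun M : Matrix (Fin n) (Fin n) F => M.submatrix e'.symm e'.symm) h2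
      simp only [Matrix.submatrix_submatrix, Equiv.self_comp_symm, Matrix.submatrix_id_id,
        Matrix.submatrix_one_equiv] at h3
      rw [← Matrix.fromBlocks_one, Matrix.fromBlocks_inj] at h3
      have h4 := Nat.le_of_dvd hm0 (hA3 m h3.1)
      omega

theorem Elt.orderOf_pr [Fintype F] {p N e : ℕ} (h : Elt F n p N e) {x : Matrix.SpecialLinearGroup (Fin n) F}
    (hx : orderOf x = N) : orderOf (pr x) = N := by
  have h1 : pr x ^ N = 1 := by rw [← map_pow, ← hx, pow_orderOf_eq_one, map_one]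
  refine Nat.dvd_antisymm (orderOf_dvd_of_pow_eq_one h1) ?_
  have h2 : pr (x ^ orderOf (pr x)) = 1 := by rw [map_pow, pow_orderOf_eq_one]
  have h3 : (x ^ orderOf (pr x)) ^ N = 1 := by
    rw [← pow_mul, mul_comm, pow_mul, ← hx, pow_orderOf_eq_one, one_pow]
  have h4 := eq_one_of_center (by have := h.n2; omega) h.coq ((pr_eq_one_iff _).1 h2) h3
  rw [← hx]
  exact orderOf_dvd_of_pow_eq_one h4

/-- **Three classes of order `v`.** -/
theorem Elt.not_SCC_of_two_mul_lt [Fintype F] {p N e : ℕ} [hp : Fact p.Prime] [CharP F p] (h : Elt F n p N e)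
    {v : ℕ} (hv : v ∣ N) (hlt : 2 * (PM p N).ncard < Nat.totient N) :
    ¬ SCC (Matrix.ProjectiveSpecialLinearGroup (Fin n) F) v := by
  classical
  rintro ⟨a, b, hab⟩
  obtain ⟨x, hx⟩ := h.exists_sl
  have hox := h.orderOf_pr hx
  let U : Finset ℕ := (Finset.range N).filter fun k => Nat.Coprime N k
  have hU : U.card = Nat.totient N := rfl
  have hUm : ∀ k ∈ U, k < N ∧ Nat.Coprime k N := by
    intro k hk
    rw [Finset.mem_filter, Finset.mem_range] at hk
    exact ⟨hk.1, hk.2.symm⟩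
  have hord : ∀ k ∈ U, orderOf (pr x ^ k) = N := by
    intro k hk
    rw [Nat.Coprime.orderOf_pow (by rw [hox]; exact (hUm k hk).2.symm), hox]
  let Sa : Finset ℕ := U.filter fun k => ∃ φ : Matrix.ProjectiveSpecialLinearGroup (Fin n) F ≃*
    Matrix.ProjectiveSpecialLinearGroup (Fin n) F, φ a = pr x ^ k
  let Sb : Finset ℕ := U.filter fun k => ∃ φ : Matrix.ProjectiveSpecialLinearGroup (Fin n) F ≃*
    Matrix.ProjectiveSpecialLinearGroup (Fin n) F, φ b = pr x ^ k
  have hsub : U ⊆ Sa ∪ Sb := by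
    intro k hk
    rw [Finset.mem_union]
    rcases hab (pr x ^ k) (by rw [hord k hk]; exact hv) with h1 | h1
    · exact Or.inl (Finset.mem_filter.2 ⟨hk, h1⟩)
    · exact Or.inr (Finset.mem_filter.2 ⟨hk, h1⟩)
  have h1 := (Finset.card_le_card hsub).trans (Finset.card_union_le _ _)
  have h2 := card_class_le h.n2 h.N1 h.cop h.coq h.dvd h.prim h.deg hx Sa
    (fun k hk => hUm k (Finset.mem_of_mem_filter k hk)) a (fun k hk => (Finset.mem_filter.1 hk).2)
  have h3 := card_class_le h.n2 h.N1 h.cop h.coq h.dvd h.prim h.deg hx Sb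
    (fun k hk => hUm k (Finset.mem_of_mem_filter k hk)) b (fun k hk => (Finset.mem_filter.1 hk).2)
  rw [hU] at h1
  omega

/-- **Two classes of order `N` and an element of another order.** -/
theorem Elt.not_SCC_of_lt [Fintype F] {p N e : ℕ} [hp : Fact p.Prime] [CharP F p] (h : Elt F n p N e)
    {v : ℕ} (hv : v ∣ N) (hlt : (PM p N).ncard < Nat.totient N)
    {w : Matrix.ProjectiveSpecialLinearGroup (Fin n) F} (hw : v ∣ orderOf w) (hwN : orderOf w ≠ N) :
    ¬ SCC (Matrix.ProjectiveSpecialLinearGroup (Fin n) F) v := by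
  classical
  have key : ∀ a b : Matrix.ProjectiveSpecialLinearGroup (Fin n) F,
      (∀ z : Matrix.ProjectiveSpecialLinearGroup (Fin n) F, v ∣ orderOf z →
        (∃ φ : Matrix.ProjectiveSpecialLinearGroup (Fin n) F ≃* Matrix.ProjectiveSpecialLinearGroup (Fin n) F,
          φ a = z) ∨ ∃ φ : Matrix.ProjectiveSpecialLinearGroup (Fin n) F ≃*
            Matrix.ProjectiveSpecialLinearGroup (Fin n) F, φ b = z) → 
      (∃ φ : Matrix.ProjectiveSpecialLinearGroup (Fin n) F ≃* Matrix.ProjectiveSpecialLinearGroup (Fin n) F,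
          φ a = w) → False := by
    rintro a b hab ⟨ψ, hψ⟩
    obtain ⟨x, hx⟩ := h.exists_sl
    have hox := h.orderOf_pr hx
    let U : Finset ℕ := (Finset.range N).filter fun k => Nat.Coprime N k
    have hU : U.card = Nat.totient N := rfl
    have hUm : ∀ k ∈ U, k < N ∧ Nat.Coprime k N := by
      intro k hk
      rw [Finset.mem_filter, Finset.mem_range] at hk
      exact ⟨hk.1, hk.2.symm⟩
    have hord : ∀ k ∈ U, orderOf (pr x ^ k) = N := by
      intro k hk
      rw [Nat.Coprime.orderOf_pow (by rw [hox]; exact (hUm k hk).2.symm), hox]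
    have h3 := card_class_le h.n2 h.N1 h.cop h.coq h.dvd h.prim h.deg hx U hUm b (fun k hk => by
      rcases hab (pr x ^ k) (by rw [hord k hk]; exact hv) with ⟨φ, hφ⟩ | h1
      · exfalso
        apply hwN
        rw [← hψ, Cfsg.Agent.H938.Sax.orderOf_mulEquiv, ← Cfsg.Agent.H938.Sax.orderOf_mulEquiv φ a, hφ, hord k hk]
      · exact h1)
    rw [hU] at h3
    omega
  rintro ⟨a, b, hab⟩
  rcases hab w hw with h1 | h1
  · exact key a b hab h1
  · exact key b a (fun z hz => (hab z hz).symm) h1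

end Cfsg.Agent.H205.DerPsl
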