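import Cfsg.Agent.H205.Der.PslC
import Cfsg.Agent.H205.Der.Num

/-!
# `PSL_3(q)`: three classes of elements of order divisible by `v`, `v ∣ q ^ 2 - 1` (helper205, S3502)
-/

set_option autoImplicit false

namespace Cfsg.Agent.H205.DerPsl

open Matrix Cfsg.Agent.H72 Cfsg.Agent.H72.AdjPSL Cfsg.Agent.H72.AdjOrth Cfsg.Agent.H39.DerPsl Cfsg.Agent.H439.Der
  Cfsg.Agent.ClassicalGeometry.AutPSL.Root Cfsg.Agent.ClassicalGeometry.AutPSL.Auto Cfsg.Agent.H199.PslAut

variable {F : Type*} [Field F] [Fintype F]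

/-- diagonal elements of `SL_3` -/
def dg (a b c : F) (h : a * b * c = 1) : Matrix.SpecialLinearGroup (Fin 3) F :=
  ⟨Matrix.diagonal ![a, b, c], by rw [Matrix.det_diagonal, Fin.prod_univ_three]; exact h⟩

omit [Fintype F] in
theorem coe_dg (a b c : F) (h : a * b * c = 1) : (dg a b c h : Matrix (Fin 3) (Fin 3) F) = Matrix.diagonal ![a, b, c] := rfl

omit [Fintype F] in
theorem dg_pow (a b c : F) (h : a * b * c = 1) (k : ℕ) :
    dg a b c h ^ k = dg (a ^ k) (b ^ k) (c ^ k) (by rw [← mul_pow, ← mul_pow, h, one_pow]) := by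
  apply Subtype.ext
  rw [Matrix.SpecialLinearGroup.coe_pow, coe_dg, coe_dg, Matrix.diagonal_pow]
  congr 1
  ext i
  fin_cases i <;> rfl

omit [Fintype F] in
theorem dg_center {a b c : F} {h : a * b * c = 1} (hc : pr (dg a b c h) = 1) : a = b ∧ a = c := by
  rw [pr_eq_one_iff] at hc
  obtain ⟨r, -, hr⟩ := Matrix.SpecialLinearGroup.mem_center_iff.1 hc
  rw [coe_dg] at hr
  have h0 := congrFun (congrFun hr 0) 0
  have h1 := congrFun (congrFun hr 1) 1
  have h2 := congrFun (congrFun hr 2) 2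
  simp at h0 h1 h2
  exact ⟨by rw [← h0, ← h1], by rw [← h0, ← h2]⟩

omit [Fintype F] in
theorem one_mem_ev_dg {a b c : F} {h : a * b * c = 1} :
    (1 : F) ∈ Ev F ((dg a b c h : Matrix.SpecialLinearGroup (Fin 3) F) : Matrix (Fin 3) (Fin 3) F) ↔
      a = 1 ∨ b = 1 ∨ c = 1 := by
  rw [mem_ev, coe_dg, Matrix.charpoly_diagonal, Fin.prod_univ_three]
  simp only [map_mul, map_sub, Polynomial.aeval_X, Polynomial.aeval_C, Algebra.algebraMap_self, RingHom.id_apply, mul_eq_zero,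
    sub_eq_zero, or_assoc]
  simp [eq_comm]

/-- **`L3(16)`, `v = 3`** -/
theorem three_sixteen (hF : Fintype.card F = 16) : ¬ SCC (Matrix.ProjectiveSpecialLinearGroup (Fin 3) F) 3 := by
  obtain ⟨a, ha, hak⟩ := exists_gen (F := F)
  rw [hF] at hak
  norm_num at hak
  have h15 : a ^ 15 = 1 := (hak 15).2 dvd_rfl
  have hne : ∀ k : ℕ, ¬ 15 ∣ k → a ^ k ≠ 1 := fun k hk h => hk ((hak k).1 h)
  have hinj : ∀ i j : ℕ, a ^ i = a ^ j → i < 15 → j < 15 → i = j := by
    intro i j hij hi hj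
    wlog h : i ≤ j generalizing i j
    · exact (this j i hij.symm hj hi (by omega)).symm
    have h1 : a ^ (j - i) = 1 := by
      have h2 : a ^ i * a ^ (j - i) = a ^ i * 1 := by rw [← pow_add, mul_one, hij]; congr 1; omega
      exact mul_left_cancel₀ (pow_ne_zero _ ha) h2
    have h3 := (hak _).1 h1
    omega
  -- `x₁ = diag (ζ, ω ζ, ω² ζ³)`, `x₂ = diag (1, ω ζ, ω² ζ⁴)`; `ω = a⁵`, `ζ = a³`
  let x₁ : Matrix.SpecialLinearGroup (Fin 3) F := dg (a ^ 3) (a ^ 8) (a ^ 19) (by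
    rw [← pow_add, ← pow_add, show 3 + 8 + 19 = 15 * 2 by norm_num, pow_mul, h15, one_pow])
  let x₂ : Matrix.SpecialLinearGroup (Fin 3) F := dg (a ^ 0) (a ^ 8) (a ^ 22) (by
    rw [← pow_add, ← pow_add, show 0 + 8 + 22 = 15 * 2 by norm_num, pow_mul, h15, one_pow])
  let x₃ : Matrix.SpecialLinearGroup (Fin 3) F := dg (a ^ 0) (a ^ 5) (a ^ 10) (by
    rw [← pow_add, ← pow_add, show 0 + 5 + 10 = 15 * 1 by norm_num, pow_mul, h15, one_pow])
  have hco : Nat.Coprime 5 (Nat.gcd 3 (Fintype.card F - 1)) := by rw [hF]; decide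
  have hord : ∀ (i j k : ℕ) (h : a ^ i * a ^ j * a ^ k = 1) (m : ℕ), a ^ (i * m) ≠ a ^ (j * m) →
      pr (dg (a ^ i) (a ^ j) (a ^ k) h) ^ m ≠ 1 := by
    intro i j k h m hm hc
    rw [← map_pow, dg_pow] at hc
    have h1 := (dg_center hc).1
    rw [← pow_mul, ← pow_mul] at h1
    exact hm h1
  have hd : ∀ (x : Matrix.ProjectiveSpecialLinearGroup (Fin 3) F), x ^ 15 = 1 → x ^ 5 ≠ 1 → 3 ∣ orderOf x := by
    intro x hx hx5
    have h1 := orderOf_dvd_of_pow_eq_one hx
    by_contra h3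
    apply hx5
    apply orderOf_dvd_iff_pow_eq_one.1
    have h2 : Nat.Coprime (orderOf x) 3 := ((Nat.Prime.coprime_iff_not_dvd Nat.prime_three).2 h3).symm
    exact h2.dvd_of_dvd_mul_left (show orderOf x ∣ 3 * 5 from h1)
  have h115 : pr x₁ ^ 15 = 1 := by
    rw [← map_pow, show x₁ ^ 15 = 1 from ?_, map_one]
    apply Subtype.ext
    rw [dg_pow, coe_dg, ← pow_mul, ← pow_mul, ← pow_mul, mul_comm 3, mul_comm 8, mul_comm 19, pow_mul, pow_mul, pow_mul,
      h15, one_pow, one_pow, one_pow]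
    ext i j
    fin_cases i <;> fin_cases j <;> simp
  have h215 : pr x₂ ^ 15 = 1 := by
    rw [← map_pow, show x₂ ^ 15 = 1 from ?_, map_one]
    apply Subtype.ext
    rw [dg_pow, coe_dg, ← pow_mul, ← pow_mul, ← pow_mul, mul_comm 0, mul_comm 8, mul_comm 22, pow_mul, pow_mul, pow_mul,
      h15, one_pow, one_pow, one_pow]
    ext i j
    fin_cases i <;> fin_cases j <;> simp
  have h33 : pr x₃ ^ 3 = 1 := by
    rw [← map_pow, show x₃ ^ 3 = 1 from ?_, map_one]
    apply Subtype.ext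
    rw [dg_pow, coe_dg, ← pow_mul, ← pow_mul, ← pow_mul, show 0 * 3 = 15 * 0 by norm_num,
      show 5 * 3 = 15 * 1 by norm_num, show 10 * 3 = 15 * 2 by norm_num, pow_mul, pow_mul, pow_mul,
      h15, one_pow, one_pow, one_pow]
    ext i j
    fin_cases i <;> fin_cases j <;> simp
  have h15a : pr x₁ ^ 5 ≠ 1 := hord 3 8 19 _ 5 (by
    rw [show a ^ (3 * 5) = 1 by rw [show 3 * 5 = 15 by norm_num, h15]]
    exact (hne 40 (by norm_num)).symm)
  have h25a : pr x₂ ^ 5 ≠ 1 := hord 0 8 22 _ 5 (by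
    rw [show a ^ (0 * 5) = 1 by rw [show 0 * 5 = 0 by norm_num, pow_zero]]
    exact (hne 40 (by norm_num)).symm)
  have h13a : pr x₁ ^ 3 ≠ 1 := by
    intro hc
    rw [← map_pow, dg_pow] at hc
    have h1 := (dg_center hc).2
    rw [← pow_mul, ← pow_mul, show 19 * 3 = 15 * 3 + 12 by norm_num, pow_add, pow_mul a 15 3, h15, one_pow, one_mul] at h1
    have h2 := hinj _ _ h1 (by norm_num) (by norm_num)
    omega
  have h23a : pr x₂ ^ 3 ≠ 1 := hord 0 8 22 _ 3 (by
    rw [show a ^ (0 * 3) = 1 by rw [show 0 * 3 = 0 by norm_num, pow_zero]]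
    exact (hne 24 (by norm_num)).symm)
  have h31a : pr x₃ ≠ 1 := by
    intro hc
    have h1 := (dg_center hc).1
    rw [pow_zero] at h1
    exact hne 5 (by norm_num) h1.symm
  have h3o : orderOf (pr x₃) = 3 := orderOf_eq_prime h33 h31a
  have hpow6 : ∀ (i j k : ℕ) (h : a ^ i * a ^ j * a ^ k = 1), 15 ∣ 30 * i → (dg (a ^ i) (a ^ j) (a ^ k) h ^ 6) ^ 5 = 1 := by
    intro i j k h _
    apply Subtype.ext
    rw [← pow_mul, dg_pow, coe_dg, ← pow_mul, ← pow_mul, ← pow_mul, show i * (6 * 5) = 15 * (2 * i) by ring,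
      show j * (6 * 5) = 15 * (2 * j) by ring, show k * (6 * 5) = 15 * (2 * k) by ring, pow_mul, pow_mul a 15, pow_mul a 15,
      h15, one_pow, one_pow, one_pow]
    ext i j
    fin_cases i <;> fin_cases j <;> simp
  refine not_SCC_of_three (x := pr x₁) (y := pr x₂) (z := pr x₃) (hd _ h115 h15a) (hd _ h215 h25a) (by rw [h3o]) ?_ ?_ ?_
  · intro φ hφ
    have h1 : φ (pr (x₁ ^ 6)) = pr (x₂ ^ 6) := by rw [map_pow, map_pow, map_pow, hφ]
    have h2 := ev_one_of_aut (by norm_num) hco (hpow6 3 8 19 _ (by norm_num)) (hpow6 0 8 22 _ (by norm_num)) φ h1 (by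
      rw [dg_pow, one_mem_ev_dg]
      left
      rw [← pow_mul, zero_mul, pow_zero])
    rw [dg_pow, one_mem_ev_dg, ← pow_mul, ← pow_mul, ← pow_mul, hak, hak, hak] at h2
    omega
  · intro φ hφ
    apply h13a
    apply φ.injective
    rw [map_pow, hφ, map_one, h33]
  · intro φ hφ
    apply h23a
    apply φ.injective
    rw [map_pow, hφ, map_one, h33]

/-- **`v ∣ q - 1`** -/
theorem three_q1 {v : ℕ} (hv : v.Prime) (h4 : Fintype.card F ≠ 4)
    (h7 : ¬ (Fintype.card F = 7 ∧ v = 3)) (hvq : v ∣ Fintype.card F - 1) :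
    ¬ SCC (Matrix.ProjectiveSpecialLinearGroup (Fin 3) F) v := by
  obtain ⟨p, hpc⟩ := CharP.exists F
  have hp : Fact p.Prime := ⟨CharP.char_is_prime F p⟩
  have hq1 : 1 < Fintype.card F := Fintype.one_lt_card
  by_cases hv2 : v ∣ (Fintype.card F - 1) / Nat.gcd 3 (Fintype.card F - 1)
  · exact three_s hv hv2
  have hv3 : v ∣ Nat.gcd 3 (Fintype.card F - 1) := by
    have h1 := Nat.div_mul_cancel (Nat.gcd_dvd_right 3 (Fintype.card F - 1))
    rw [← h1] at hvq
    exact (hv.dvd_mul.1 hvq).resolve_left hv2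
  have hv3' : v = 3 := (Nat.prime_dvd_prime_iff_eq hv Nat.prime_three).1 (hv3.trans (Nat.gcd_dvd_left _ _))
  subst hv3'
  have hg : Nat.gcd 3 (Fintype.card F - 1) = 3 := Nat.gcd_eq_left hvq
  rw [hg] at hv2
  obtain ⟨k, hk⟩ := hvq
  rw [hk, Nat.mul_div_cancel_left k (by norm_num)] at hv2
  have hz := exists_three_tor hk ((Nat.Prime.coprime_iff_not_dvd Nat.prime_three).2 hv2)
  by_cases hkp : k.Prime
  · obtain ⟨f, -, hqf⟩ := FiniteField.card F p
    by_cases hp2 : p = 2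
    · subst hp2
      have h16 : (f : ℕ) = 4 := sixteen (m := k) (by rw [← hqf]; exact hk) hkp
      exact three_sixteen (by rw [hqf, h16]; norm_num)
    · exfalso
      apply h7
      refine ⟨?_, rfl⟩
      have hodd : Odd (Fintype.card F) := by
        rw [hqf]
        exact (hp.out.odd_of_ne_two hp2).pow
      obtain ⟨a, ha⟩ := hodd
      have h2k : 2 ∣ k := by omega
      have := (Nat.prime_dvd_prime_iff_eq Nat.prime_two hkp).1 h2k
      omega
  · exact not_SCC_of_not_prime (by norm_num) hz (by omega) (by omega) hkp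

/-- `|PM|` for a prime modulus -/
theorem card_pm_even {p f v g : ℕ} (hv : v.Prime) (hg : 0 < g) (hf : 0 < f)
    (he : orderOf ((p ^ f : ℕ) : ZMod v) = 2 * g) : (PM p v).ncard ≤ 2 * g * f := by
  have : NeZero v := ⟨hv.ne_zero⟩
  have := Fact.mk hv
  have h1 : ((p : ZMod v) ^ (f * g)) ^ 2 = 1 := by
    have := pow_orderOf_eq_one ((p ^ f : ℕ) : ZMod v)
    rw [he] at this
    push_cast at this
    rw [← pow_mul, ← this, ← pow_mul]
    congr 1
    ring
  have h2 : (p : ZMod v) ^ (f * g) ≠ 1 := by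
    intro h
    have h3 : ((p ^ f : ℕ) : ZMod v) ^ g = 1 := by
      push_cast
      rw [← pow_mul, h]
    have h4 := orderOf_dvd_of_pow_eq_one h3
    rw [he] at h4
    have := Nat.le_of_dvd hg h4
    omega
  have h3 : (p : ZMod v) ^ (f * g) = -1 := (mul_self_eq_one_iff.1 (by rw [← pow_two]; exact h1)).resolve_left h2
  refine card_pm_le' (T := 2 * g * f) (s := f * g) (by positivity) ?_ h3
  rw [show 2 * g * f = f * g * 2 by ring, pow_mul, h1]

theorem card_pm_all {p f N e : ℕ} (hN : 0 < N) (he0 : 0 < e) (hf : 0 < f)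
    (he : N ∣ (p ^ f) ^ e - 1) (hp : 0 < p) : (PM p N).ncard ≤ 2 * (e * f) := by
  have : NeZero N := ⟨hN.ne'⟩
  refine card_pm_le (by positivity) ?_
  have h1 : 1 ≤ (p ^ f) ^ e := Nat.one_le_pow _ _ (by positivity)
  rw [← ZMod.natCast_eq_zero_iff, Nat.cast_sub h1, sub_eq_zero] at he
  push_cast at he
  rw [← he, ← pow_mul, mul_comm e f]

/-- **`v ∣ q + 1`** -/
theorem three_e2 {v : ℕ} (hv : v.Prime) (h2 : Fintype.card F ≠ 2) (h4 : Fintype.card F ≠ 4)
    (hvq : ¬ v ∣ Fintype.card F - 1) (he : orderOf ((Fintype.card F : ℕ) : ZMod v) = 2) :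
    ¬ SCC (Matrix.ProjectiveSpecialLinearGroup (Fin 3) F) v := by
  obtain ⟨p, hpc⟩ := CharP.exists F
  have hp : Fact p.Prime := ⟨CharP.char_is_prime F p⟩
  have hq1 : 1 < Fintype.card F := Fintype.one_lt_card
  have hpq := p_dvd (F := F) p
  obtain ⟨f, -, hqf⟩ := FiniteField.card F p
  have hpd1 := not_dvd_of_dvd_add hp.out hpq
  have hvd : v ∣ Fintype.card F + 1 := by
    have h1 := dvd_pow_ee (q := Fintype.card F) (r := v) Fintype.card_pos
    rw [ee, he] at h1
    have h3 : Fintype.card F ^ 2 - 1 = (Fintype.card F + 1) * (Fintype.card F - 1) := by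
      have := Nat.sq_sub_sq (Fintype.card F) 1
      simpa using this
    rw [h3] at h1
    exact (hv.dvd_mul.1 h1).resolve_right hvq
  have hs := s_ne_one h2 h4 hq1
  have hs0 : (Fintype.card F - 1) / Nat.gcd 3 (Fintype.card F - 1) ≠ 0 := by
    intro h
    have h1 := Nat.div_mul_cancel (Nat.gcd_dvd_right 3 (Fintype.card F - 1))
    rw [h, zero_mul] at h1
    omega
  have hz := hasOrd_tor3 (F := F)
  obtain ⟨k, hk⟩ := hvd
  set s := (Fintype.card F - 1) / Nat.gcd 3 (Fintype.card F - 1) with hsdef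
  have hk0 : k ≠ 0 := by
    rintro rfl
    omega
  have hz' : HasOrd (Matrix.ProjectiveSpecialLinearGroup (Fin 3) F) (v * (s * k)) := by
    rw [show v * (s * k) = s * (v * k) by ring, ← hk]
    exact hz
  have hsk : s * k ≠ 1 := by
    intro h
    exact hs (Nat.eq_one_of_mul_eq_one_right h)
  by_cases hm : (s * k).Prime
  · have hk1 : k = 1 := by
      by_contra h
      exact Nat.not_prime_mul hs h hm
    rw [hk1, mul_one] at hk
    have hvp : v ≠ p := by
      rintro rfl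
      exact hpd1 (by rw [hk])
    have hElt : Elt F 3 p v 2 := by
      refine ⟨by norm_num, hv.one_lt, (Nat.coprime_primes hv hp.out).2 hvp, (Nat.Prime.coprime_iff_not_dvd hv).2 hvq,
        ?_, ?_, by norm_num, by norm_num⟩
      · have h1 := dvd_pow_ee (q := Fintype.card F) (r := v) Fintype.card_pos
        rwa [ee, he] at h1
      · intro r hr hrv
        rw [(Nat.prime_dvd_prime_iff_eq hr hv).1 hrv]
        exact he
    have h2f : 2 * (f : ℕ) < Fintype.card F := by
      obtain ⟨h5, h6⟩ := two_f hp.out f.pos hqf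
      rcases Nat.lt_or_ge (f : ℕ) 3 with h7 | h7
      · have : (f : ℕ) = 1 ∨ (f : ℕ) = 2 := by have := f.pos; omega
        omega
      · have h8 : ∀ g : ℕ, 3 ≤ g → 2 * g < 2 ^ g := by
          intro g hg
          induction g, hg using Nat.le_induction with
          | base => norm_num
          | succ n hn ih => rw [pow_succ]; omega
        have := h8 f h7
        omega
    have hpm := card_pm_even (p := p) (f := f) (v := v) (g := 1) hv one_pos f.pos (by rw [← hqf, he])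
    obtain ⟨w, hw⟩ := hz
    refine hElt.not_SCC_of_lt dvd_rfl ?_ (w := w) (by rw [hw, hk]; exact dvd_mul_left _ _) ?_
    · rw [Nat.totient_prime hv]
      omega
    · rw [hw, hk]
      intro h
      exact hs (Nat.eq_of_mul_eq_mul_right hv.pos (by rw [h, one_mul]))
  · exact not_SCC_of_not_prime hv.pos hz' (Nat.mul_ne_zero hs0 hk0) hsk hm

end Cfsg.Agent.H205.DerPsl
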