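import Cfsg.Agent.H205.Der.PslD

/-!
# The large primes of `PSL_n(q)`: three classes of elements of order divisible by `v` (helper205, S3502)
-/

set_option autoImplicit false

namespace Cfsg.Agent.H205.DerPsl

open Matrix Cfsg.Agent.H72 Cfsg.Agent.H72.AdjPSL Cfsg.Agent.H72.AdjOrth Cfsg.Agent.H39.DerPsl Cfsg.Agent.H439.Der
  Cfsg.Agent.ClassicalGeometry.AutPSL.Root Cfsg.Agent.ClassicalGeometry.AutPSL.Auto Cfsg.Agent.H199.PslAut

theorem card_pm_cc {p f v e : ℕ} (hp : 0 < p) (hv : v.Prime) (he0 : 0 < e) (hf : 0 < f)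
    (he : orderOf ((p ^ f : ℕ) : ZMod v) = e) : (PM p v).ncard ≤ cc e f := by
  rw [cc]
  split_ifs with h
  · obtain ⟨g, hg⟩ := h
    have h1 := card_pm_even (p := p) (f := f) (v := v) (g := g) hv (by omega) hf (by rw [he]; omega)
    rw [show e = 2 * g by omega]
    exact h1
  · refine card_pm_all hv.pos he0 hf ?_ hp
    have h1 := dvd_pow_ee (q := p ^ f) (r := v) (Nat.one_le_pow _ _ hp)
    rwa [ee, he] at h1

theorem cc_le (e f : ℕ) : cc e f ≤ 2 * (e * f) := by
  rw [cc]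
  split_ifs <;> omega

theorem num_core {p f q e g v m j : ℕ} (hp : p.Prime) (hf : 1 ≤ f) (hq : q = p ^ f) (he : 4 ≤ e)
    (hex : (e, q) ∉ ({(4, 2), (4, 3), (5, 2)} : Finset (ℕ × ℕ))) (hg : g ∣ Nat.gcd e (q - 1))
    (hm : gs q e ≤ v * m * g) (hj : (j = 1 ∧ m ≤ q - 1) ∨ (2 ≤ j ∧ 2 * j ≤ e ∧ m ≤ gs q j)) : cc e f + 1 < v := by
  have hL := num_L hp hf hq he hex hg
  obtain ⟨h5, h6⟩ := two_f hp hf hq
  have hq2 : 2 ≤ q := by omega
  have hg0 : 0 < g := Nat.pos_of_dvd_of_pos hg (Nat.gcd_pos_of_pos_left _ (by omega))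
  have key : q ^ ((e + 1) / 2) < v * g := by
    rcases hj with ⟨rfl, hmj⟩ | ⟨hj2, hje, hmj⟩
    · have h1 : gs q 1 = 1 := by simp [gs]
      have h2 := gs_gt (q := q) (j := 1) (e := e) (by omega)
      rw [h1, mul_one] at h2
      have h3 : q ^ (e - 1) = q ^ (e - 2) * q := by rw [← pow_succ]; congr 1; omega
      have h4 : q ^ (e - 2) * (q - 1) ≤ q ^ (e - 2) * q := Nat.mul_le_mul_left _ (by omega)
      have h7 : v * m * g ≤ v * g * (q - 1) := by
        calc v * m * g = v * g * m := by ring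
          _ ≤ _ := Nat.mul_le_mul_left _ hmj
      have h8 : q ^ (e - 2) * (q - 1) < v * g * (q - 1) := by omega
      have h9 := Nat.lt_of_mul_lt_mul_right h8
      exact lt_of_le_of_lt (Nat.pow_le_pow_right (by omega) (by omega)) h9
    · have h2 := gs_gt (q := q) (j := j) (e := e) (by omega)
      have h7 : v * m * g ≤ v * g * gs q j := by
        calc v * m * g = v * g * m := by ring
          _ ≤ _ := Nat.mul_le_mul_left _ hmj
      have h8 : q ^ (e - j) * gs q j < v * g * gs q j := by omega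
      have h9 := Nat.lt_of_mul_lt_mul_right h8
      exact lt_of_le_of_lt (Nat.pow_le_pow_right (by omega) (by omega)) h9
  have h1 : (cc e f + 1) * g < v * g := by
    rw [mul_comm (cc e f + 1)]
    omega
  exact Nat.lt_of_mul_lt_mul_right h1

variable {F : Type*} [Field F] [Fintype F] {n : ℕ}

theorem Elt.of_prime {p v e : ℕ} [hp : Fact p.Prime] [CharP F p] (hn2 : 2 ≤ n) (hv : v.Prime) (hvp : v ≠ p)
    (hvq : ¬ v ∣ Fintype.card F - 1) (he : orderOf ((Fintype.card F : ℕ) : ZMod v) = e) (hdeg : n < 2 * e)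
    (hen : e ≤ n) : Elt F n p v e := by
  refine ⟨hn2, hv.one_lt, (Nat.coprime_primes hv hp.out).2 hvp, (Nat.Prime.coprime_iff_not_dvd hv).2 hvq,
        ?_, ?_, hdeg, hen⟩
  · have h1 := dvd_pow_ee (q := Fintype.card F) (r := v) Fintype.card_pos
    rwa [ee, he] at h1
  · intro r hr hrv
    rw [(Nat.prime_dvd_prime_iff_eq hr hv).1 hrv]
    exact he

theorem le_of_order {q v e : ℕ} (hv : v.Prime) (he0 : 0 < e) (he : orderOf ((q : ℕ) : ZMod v) = e) : e + 1 ≤ v := by
  have := Fact.mk hv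
  have h0 : ((q : ℕ) : ZMod v) ≠ 0 := by
    intro h
    rw [h, orderOf_eq_zero_iff.2] at he
    · omega
    · intro h1
      obtain ⟨k, hk, h2⟩ := isOfFinOrder_iff_pow_eq_one.1 h1
      rw [zero_pow (by omega)] at h2
      exact zero_ne_one h2
  have h1 := ZMod.orderOf_dvd_card_sub_one h0
  rw [he] at h1
  have := Nat.le_of_dvd (by have := hv.two_le; omega) h1
  have := hv.pos
  omega

/-- the totient of a product of two primes -/
theorem totient_mul_ge {v m : ℕ} (hv : v.Prime) (hm : m.Prime) (h4 : 4 ≤ v) (h4' : 4 ≤ m) :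
    v * m ≤ 2 * Nat.totient (v * m) := by
  by_cases h : v = m
  · subst h
    rw [← pow_two, Nat.totient_prime_pow hv (by norm_num), pow_two]
    norm_num
    obtain ⟨a, rfl⟩ : ∃ a, v = a + 1 := ⟨v - 1, by omega⟩
    rw [Nat.add_sub_cancel]
    nlinarith
  · rw [Nat.totient_mul ((Nat.coprime_primes hv hm).2 h), Nat.totient_prime hv, Nat.totient_prime hm]
    obtain ⟨a, rfl⟩ : ∃ a, v = a + 1 := ⟨v - 1, by omega⟩
    obtain ⟨b, rfl⟩ : ∃ b, m = b + 1 := ⟨m - 1, by omega⟩
    rw [Nat.add_sub_cancel, Nat.add_sub_cancel]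
    nlinarith

/-- **The common part.** -/
theorem three_core {p f v m e : ℕ} [hp : Fact p.Prime] [CharP F p] (hn2 : 2 ≤ n) (hqf : Fintype.card F = p ^ f)
    (hf : 0 < f) (hv : v.Prime) (hvp : v ≠ p) (hvq : ¬ v ∣ Fintype.card F - 1)
    (he : orderOf ((Fintype.card F : ℕ) : ZMod v) = e) (hdeg : n < 2 * e) (hen : e ≤ n) (he3 : 3 ≤ e)
    (hz : HasOrd (Matrix.ProjectiveSpecialLinearGroup (Fin n) F) (v * m)) (hm0 : m ≠ 0)
    (hmd : v * m ∣ Fintype.card F ^ e - 1)
    (h1 : m = 1 → 4 * (e * f) + 1 < v)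
    (h2 : m.Prime → ¬ m ∣ Fintype.card F - 1 → 4 * (e * f) + 1 < v * m)
    (h3 : m.Prime → orderOf ((Fintype.card F : ℕ) : ZMod m) ≠ e → cc e f + 1 < v) :
    ¬ SCC (Matrix.ProjectiveSpecialLinearGroup (Fin n) F) v := by
  have hEv := Elt.of_prime (F := F) (p := p) hn2 hv hvp hvq he hdeg hen
  have hq1 : 1 < Fintype.card F := Fintype.one_lt_card
  have hpq := p_dvd (F := F) p
  by_cases hm1 : m = 1
  · have h4 := h1 hm1
    have h5 := card_pm_cc (p := p) (f := f) (e := e) hp.out.pos hv (by omega) hf (by rw [← hqf, he])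
    have h6 := cc_le e f
    refine hEv.not_SCC_of_two_mul_lt dvd_rfl ?_
    rw [Nat.totient_prime hv]
    omega
  by_cases hm : m.Prime
  · by_cases hme : orderOf ((Fintype.card F : ℕ) : ZMod m) = e
    · have hmq : ¬ m ∣ Fintype.card F - 1 := by
        intro h
        have h4 := (ee_eq_one_iff (q := Fintype.card F) (r := m) hq1.le).2 h
        rw [ee, hme] at h4
        omega
      have h4 := h2 hm hmq
      have hmp : m ≠ p := by
        rintro rfl
        have h5 : m ∣ Fintype.card F ^ e - 1 := (dvd_mul_left _ _).trans hmd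
        exact not_dvd_of_dvd_sub hm (Nat.one_le_pow _ _ (by omega)) (dvd_pow hpq (by omega)) h5
      have hE : Elt F n p (v * m) e := by
        refine ⟨hn2, ?_, Nat.Coprime.mul_left ((Nat.coprime_primes hv hp.out).2 hvp)
          ((Nat.coprime_primes hm hp.out).2 hmp), Nat.Coprime.mul_left ((Nat.Prime.coprime_iff_not_dvd hv).2 hvq)
          ((Nat.Prime.coprime_iff_not_dvd hm).2 hmq), hmd, ?_, hdeg, hen⟩
        · have := hv.one_lt
          have := hm.pos
          nlinarith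
        · intro r hr hrv
          rcases hr.dvd_mul.1 hrv with h5 | h5
          · rw [(Nat.prime_dvd_prime_iff_eq hr hv).1 h5]
            exact he
          · rw [(Nat.prime_dvd_prime_iff_eq hr hm).1 h5]
            exact hme
      have h5 := card_pm_all (p := p) (f := f) (N := v * m) (e := e) (Nat.mul_pos hv.pos hm.pos) (by omega) hf
        (by rw [← hqf]; exact hmd) hp.out.pos
      have h6 := totient_mul_ge hv hm (by have := le_of_order hv (by omega) he; omega)
        (by have := le_of_order hm (by omega) hme; omega)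
      obtain ⟨w, hw⟩ := hz.dvd (Nat.mul_ne_zero hv.ne_zero hm0) (dvd_mul_right v m)
      refine hE.not_SCC_of_lt (dvd_mul_right _ _) (by omega) (w := w) (by rw [hw]) ?_
      rw [hw]
      intro h
      exact hm1 (Nat.eq_of_mul_eq_mul_left hv.pos (by rw [← h, mul_one]))
    · have h4 := h3 hm hme
      have h5 := card_pm_cc (p := p) (f := f) (e := e) hp.out.pos hv (by omega) hf (by rw [← hqf, he])
      obtain ⟨w, hw⟩ := hz
      refine hEv.not_SCC_of_lt dvd_rfl (by rw [Nat.totient_prime hv]; omega) (w := w)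
        (by rw [hw]; exact dvd_mul_right _ _) ?_
      rw [hw]
      intro h
      exact hm1 (Nat.eq_of_mul_eq_mul_left hv.pos (by rw [h, mul_one]))
  · exact not_SCC_of_not_prime hv.pos hz hm0 hm1 hm

theorem nine_not_dvd (q : ℕ) : ¬ 9 ∣ gs q 3 := by
  rw [gs_three]
  intro h
  have h1 : (q ^ 2 + q + 1) % 9 = 0 := Nat.mod_eq_zero_of_dvd h
  have h2 : q % 9 < 9 := Nat.mod_lt _ (by norm_num)
  rw [Nat.add_mod, Nat.add_mod (q ^ 2), Nat.pow_mod] at h1
  interval_cases (q % 9) <;> simp at h1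

theorem gs_mod_sub {q r n : ℕ} (hq : 1 ≤ q) (h : r ∣ q - 1) (h' : r ∣ gs q n) : r ∣ n := by
  have h1 : ((q : ℕ) : ZMod r) = 1 := by
    have h2 := (ZMod.natCast_eq_zero_iff (q - 1) r).2 h
    rw [Nat.cast_sub hq, Nat.cast_one, sub_eq_zero] at h2
    exact h2
  have h3 := (ZMod.natCast_eq_zero_iff (gs q n) r).2 h'
  unfold gs at h3
  push_cast at h3
  rw [h1] at h3
  simp only [one_pow, Finset.sum_const, Finset.card_range, nsmul_eq_mul, mul_one] at h3
  exact (ZMod.natCast_eq_zero_iff n r).1 h3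

/-- properties of a nonprimitive prime `m` -/
theorem nonprim {q e m : ℕ} (hq : 2 ≤ q) (hm : m.Prime) (he : 1 ≤ e) (hmd : m ∣ q ^ e - 1)
    (hne : orderOf ((q : ℕ) : ZMod m) ≠ e) : m ∣ q - 1 ∨
      (2 ≤ orderOf ((q : ℕ) : ZMod m) ∧ 2 * orderOf ((q : ℕ) : ZMod m) ≤ e ∧
        m ≤ gs q (orderOf ((q : ℕ) : ZMod m))) := by
  have h1 : ee q m ∣ e := ee_dvd (by omega) hmd
  have h2 : m ∣ q ^ (ee q m) - 1 := dvd_pow_ee (by omega)
  have h3 : ee q m ≠ 0 := by
    intro h
    rw [h] at h1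
    have := Nat.eq_zero_of_zero_dvd h1
    omega
  by_cases h4 : m ∣ q - 1
  · exact Or.inl h4
  right
  change 2 ≤ ee q m ∧ 2 * ee q m ≤ e ∧ m ≤ gs q (ee q m)
  have h5 : ee q m ≠ 1 := fun h => h4 ((ee_eq_one_iff (by omega)).1 h)
  refine ⟨by omega, ?_, ?_⟩
  · obtain ⟨c, hc⟩ := h1
    have hc1 : c ≠ 1 := by
      rintro rfl
      apply hne
      rw [mul_one] at hc
      exact hc.symm
    have hc0 : c ≠ 0 := by
      rintro rfl
      omega
    rw [hc, mul_comm]
    exact Nat.mul_le_mul_left _ (by omega)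
  · rw [← gs_mul q _ (by omega)] at h2
    exact Nat.le_of_dvd (by have := gs_pos q (n := ee q m) (by omega); omega)
      ((hm.dvd_mul.1 h2).resolve_right h4)

end Cfsg.Agent.H205.DerPsl
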