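import Cfsg.Agent.H205.Der.L33b
import Cfsg.Agent.H205.Der.L52
import Cfsg.Agent.H205.Der.L62
import Cfsg.Agent.H39.Der.RowPsl
import Cfsg.Agent.SporadicA.FieldFour

/-!
# `RowS (PSL_n(q))` (helper205, S3502)

`n ≥ 3`, except `L3(2)`, `L3(4)`, `L4(2)`.
-/

set_option autoImplicit false

namespace Cfsg.Agent.H205.DerPsl

open Subgroup Matrix Cfsg Cfsg.Agent.H39.DerPsl Cfsg.Agent.H439.Der Cfsg.Agent.OrdDiv Cfsg.Agent.H938.Sax

variable (tab : OrderTable.{0}) (hK : ∀ (X : Type) [Group X] [Finite X] [IsSimpleGroup X], Cfsg.IsKnownSimple' X)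

include tab hK

/-- **The strong row for `PSL_n(q)`, `n ≥ 3`.** -/
theorem rowS_psl {F : Type} [Field F] [Fintype F] {n : ℕ} (hn : 3 ≤ n)
    (hex : (n, Fintype.card F) ∉ ({(3, 2), (3, 4), (4, 2)} : Finset (ℕ × ℕ))) :
    RowS (Matrix.ProjectiveSpecialLinearGroup (Fin n) F) := by
  have hfin : Finite (Matrix.ProjectiveSpecialLinearGroup (Fin n) F) := finite_psl
  by_cases h33 : n = 3 ∧ Fintype.card F = 3
  · obtain ⟨rfl, hF⟩ := h33
    have h1 : RowS P3 := P3.row fun M hM => pgap_psl tab hK (by norm_num) (by norm_num) (by norm_num) M hM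
    exact RowS.congr (SporadicA.FieldFour.pslCongr (FiniteField.ringEquivOfCardEq ((ZMod.card 3).trans hF.symm))) h1
  refine RowS.of_three fun M hM => ?_
  by_cases h62 : n = 6 ∧ Fintype.card F = 2
  · obtain ⟨rfl, hF⟩ := h62
    exact three_l62 tab hK hF M hM.1
  have h42 : ¬ (n = 4 ∧ Fintype.card F = 2) := by
    rintro ⟨rfl, hF⟩
    apply hex
    rw [hF]
    decide
  obtain ⟨v, hv, hd, hnd⟩ := pgap_psl tab hK hn h42 h62 M hM
  by_cases hx : (n, Fintype.card F, v) ∈ ({(3, 3, 13), (4, 3, 13), (5, 2, 5), (3, 7, 3)} : Finset (ℕ × ℕ × ℕ))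
  · simp only [Finset.mem_insert, Finset.mem_singleton, Prod.mk.injEq] at hx
    rcases hx with ⟨rfl, hF, rfl⟩ | ⟨rfl, hF, rfl⟩ | ⟨rfl, hF, rfl⟩ | ⟨rfl, hF, rfl⟩
    · exact absurd ⟨rfl, hF⟩ h33
    · exact three_l43 tab hK hF M hnd
    · exact three_l52 tab hK hF M hnd
    · exact three_l37 tab hK hF M hnd
  · exact three_of_gap hn hex hv hd hx M hnd

end Cfsg.Agent.H205.DerPsl
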