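import Cfsg.Agent.H834.Sax.Tool
import Cfsg.Agent.H205.Der.NoInv

/-!
# Subgroups of `PSL_n(q)` with irreducible elements of prime order (helper205, S3502)

* `exists_struct2` : the structure theorem `H834.Sax.exists_struct'` with more information;
* `struct_psl`.
-/

set_option autoImplicit false

namespace Cfsg.Agent.H205.DerPsl

open Subgroup Cfsg.Agent.H970.StabK Cfsg.Agent.H970.StabNum Cfsg.Agent.H251.Small Cfsg.Agent.H938.Sax

universe u

section A

variable {H : Type u} [Group H] [Finite H] {p : ℕ} [hp : Fact p.Prime]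

/-- **The structure theorem.** -/
theorem exists_struct2 {P : Subgroup H} (hP : Nat.card P = p) (hp2 : ¬ p ^ 2 ∣ Nat.card H) :
    ∃ a s c m D : ℕ, Nat.card H = a * s * c ∧ ¬ p ∣ a ∧ Nat.card (normalizer (P : Set H)) = c * D * (p * m) ∧
      (∀ r : ℕ, r.Prime → r ∣ a → ∃ S : Subgroup H, IsPGroup r S ∧ S ≠ ⊥ ∧ ∀ b ∈ P, ∀ y ∈ S, b * y * b⁻¹ ∈ S) ∧
      ((s = p ∧ m = 1) ∨ ∃ (K : Type u) (_ : Group K) (_ : Finite K), IsSimpleGroup K ∧
        (¬ ∀ x y : K, x * y = y * x) ∧ Nat.card K = s ∧ p ∣ s ∧ 2 ≤ m ∧ p * m ∣ s ∧ s / (p * m) ≡ 1 [MOD p] ∧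
        (∀ n : ℕ, n.Coprime a → n.Coprime c → Cfsg.Agent.H58.Rec.HasOrd H n → Cfsg.Agent.H58.Rec.HasOrd K n) ∧
        (∀ y : H, ∃ z : K, orderOf y ∣ orderOf z * (a * c))) := by
  obtain ⟨L, hL, hLn, R, hRn, hRp, hmax⟩ : ∃ L : Subgroup H, L = normalClosure (P : Set H) ∧ L.Normal ∧
      ∃ R : Subgroup L, R.Normal ∧ ¬ p ∣ Nat.card R ∧
      ∀ N : Subgroup L, N.Normal → R ≤ N → N = R ∨ N = ⊤ :=
    ⟨_, rfl, Subgroup.normalClosure_normal, exists_simple hP hp2⟩
  have hPL : P ≤ L := by rw [hL]; exact Subgroup.subset_normalClosure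
  have hcard : Nat.card (P.subgroupOf L) = p := by
    rw [Nat.card_congr (Subgroup.subgroupOfEquivOfLe hPL).toEquiv, hP]
  have hLp2 : ¬ p ^ 2 ∣ Nat.card L := fun h => hp2 (h.trans (Subgroup.card_subgroup_dvd_card L))
  have hpL : p ∣ Nat.card L := by rw [← hcard]; exact Subgroup.card_subgroup_dvd_card _
  have hLRK : Nat.card L = Nat.card (L ⧸ R) * Nat.card R := Subgroup.card_eq_card_quotient_mul_card_subgroup R
  have hpK : p ∣ Nat.card (L ⧸ R) := by
    rw [hLRK] at hpL
    exact (hp.out.dvd_mul.1 hpL).resolve_right hRp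
  have hKp2 : ¬ p ^ 2 ∣ Nat.card (L ⧸ R) := fun h => hLp2 (by rw [hLRK]; exact h.mul_right _)
  have hnt : Nontrivial (L ⧸ R) := by
    by_contra hcon
    rw [not_nontrivial_iff_subsingleton] at hcon
    rw [Nat.card_of_subsingleton (1 : L ⧸ R)] at hpK
    exact hp.out.one_lt.ne' (Nat.dvd_one.1 hpK)
  have hsimple : IsSimpleGroup (L ⧸ R) := by
    refine ⟨fun N hN => ?_⟩
    have h1 : R ≤ N.comap (QuotientGroup.mk' R) := by
      intro x hx
      rw [Subgroup.mem_comap, QuotientGroup.mk'_apply, (QuotientGroup.eq_one_iff x).2 hx]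
      exact N.one_mem
    have h2 : N = (N.comap (QuotientGroup.mk' R)).map (QuotientGroup.mk' R) :=
      (Subgroup.map_comap_eq_self_of_surjective (QuotientGroup.mk'_surjective R) N).symm
    rcases hmax _ (hN.comap _) h1 with h | h
    · left
      rw [h2, h]
      rw [eq_bot_iff]
      rintro _ ⟨x, hx, rfl⟩
      exact (QuotientGroup.eq_one_iff x).2 hx
    · right
      rw [h2, h]
      exact Subgroup.map_top_of_surjective _ (QuotientGroup.mk'_surjective R)
  have hmapcard : Nat.card ((P.subgroupOf L).map (QuotientGroup.mk' R)) = p := by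
    have h1 : Nat.card ((P.subgroupOf L).map (QuotientGroup.mk' R)) ∣ p := by
      have := Subgroup.card_map_dvd (P.subgroupOf L) (QuotientGroup.mk' R)
      rwa [hcard] at this
    rcases (Nat.dvd_prime hp.out).1 h1 with h | h
    · exfalso
      have h2 : (P.subgroupOf L).map (QuotientGroup.mk' R) = ⊥ := Subgroup.eq_bot_of_card_eq _ h
      rw [Subgroup.map_eq_bot_iff, QuotientGroup.ker_mk'] at h2
      apply hRp
      rw [← hcard]
      exact Subgroup.card_dvd_of_le h2
    · exact h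
  have hN1 := card_normalizer_frattini hPL hP hp2
  have hN2 := card_normalizer (R := R) hcard hRp
  set D := Nat.card (R ⊓ normalizer ((P.subgroupOf L : Subgroup L) : Set L) : Subgroup L) with hD
  have hInv : ∀ r : ℕ, r.Prime → r ∣ Nat.card R →
      ∃ S : Subgroup H, IsPGroup r S ∧ S ≠ ⊥ ∧ ∀ b ∈ P, ∀ y ∈ S, b * y * b⁻¹ ∈ S := by
    intro r hr hrR
    have := Fact.mk hr
    have hPp : IsPGroup p (P.subgroupOf L) := IsPGroup.of_card (n := 1) (by rw [hcard, pow_one])
    obtain ⟨S, hSR, hS, hSi, hinv⟩ := Cfsg.Agent.Classification.QDW.FuCop.exists_inv (D := P.subgroupOf L) (X := R) hPp hRp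
      (fun b _ u hu => Subgroup.Normal.conj_mem inferInstance u hu b) r
    refine ⟨S.map L.subtype, hS.map _, ?_, ?_⟩
    · intro h1
      have h2 : S = ⊥ := by
        rwa [Subgroup.map_eq_bot_iff_of_injective _ L.subtype_injective] at h1
      have h3 : S.relIndex R = Nat.card R := by
        rw [h2, Subgroup.relIndex_bot_left]
      rw [h3] at hSi
      exact hSi hrR
    · rintro b hb _ ⟨y, hy, rfl⟩
      exact ⟨_, hinv ⟨b, hPL hb⟩ hb y hy, rfl⟩
  have hHc : Nat.card H = Nat.card R * Nat.card (L ⧸ R) * L.index := by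
    rw [← Subgroup.card_mul_index L, hLRK, mul_comm (Nat.card (L ⧸ R))]
  by_cases hab : ∀ x y : L ⧸ R, x * y = y * x
  · refine ⟨Nat.card R, Nat.card (L ⧸ R), L.index, 1, D, hHc, hRp, ?_, hInv, Or.inl ⟨?_, rfl⟩⟩
    · rw [hN1, hN2, mul_one, ← mul_assoc]
      congr 1
      have h3 : normalizer (((P.subgroupOf L).map (QuotientGroup.mk' R) : Subgroup (L ⧸ R)) : Set (L ⧸ R)) = ⊤ := by
        rw [eq_top_iff]
        intro x _
        rw [Subgroup.mem_normalizer_iff]
        intro y
        rw [hab x y, mul_inv_cancel_right]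
      have h4 : (P.subgroupOf L).map (QuotientGroup.mk' R) = ⊤ := by
        have : ((P.subgroupOf L).map (QuotientGroup.mk' R)).Normal := ⟨fun n hn g => by
          rw [hab g n, mul_inv_cancel_right]; exact hn⟩
        rcases hsimple.eq_bot_or_eq_top_of_normal _ this with h | h
        · rw [h, Subgroup.card_bot] at hmapcard
          exact absurd hmapcard hp.out.one_lt.ne
        · exact h
      rw [h3, ← h4]
      exact hmapcard
    · have h4 : (P.subgroupOf L).map (QuotientGroup.mk' R) = ⊤ := by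
        have : ((P.subgroupOf L).map (QuotientGroup.mk' R)).Normal := ⟨fun n hn g => by
          rw [hab g n, mul_inv_cancel_right]; exact hn⟩
        rcases hsimple.eq_bot_or_eq_top_of_normal _ this with h | h
        · rw [h, Subgroup.card_bot] at hmapcard
          exact absurd hmapcard hp.out.one_lt.ne
        · exact h
      rw [h4, Subgroup.card_top] at hmapcard
      exact hmapcard
  · obtain ⟨m, hm, hm2, hmd, hmm⟩ := two_le_normalizer hab hmapcard hKp2
    refine ⟨Nat.card R, Nat.card (L ⧸ R), L.index, m, D, hHc, hRp, ?_, hInv,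
      Or.inr ⟨L ⧸ R, inferInstance, inferInstance, hsimple, hab, rfl, hpK, hm2,
        hmd, hmm, fun n hna hnc hn => ?_, fun y => ?_⟩⟩
    · rw [hN1, hN2, ← mul_assoc, hm]
    · have h6 : Cfsg.Agent.H58.Rec.HasOrd L n := hn.subgroup_of_coprime L hnc
      refine h6.map_of_coprime (QuotientGroup.mk' R) ?_
      rw [QuotientGroup.ker_mk']
      exact hna
    · have hyL : y ^ L.index ∈ L := Subgroup.pow_index_mem L y
      refine ⟨QuotientGroup.mk' R ⟨y ^ L.index, hyL⟩, ?_⟩
      set z := QuotientGroup.mk' R ⟨y ^ L.index, hyL⟩ with hz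
      have h7 : (⟨y ^ L.index, hyL⟩ : L) ^ orderOf z ∈ R := by
        rw [← QuotientGroup.eq_one_iff, QuotientGroup.mk_pow]
        exact pow_orderOf_eq_one z
      have h8 : ((⟨y ^ L.index, hyL⟩ : L) ^ orderOf z) ^ Nat.card R = 1 := by
        have h9 := pow_card_eq_one' (x := (⟨_, h7⟩ : R))
        exact congrArg Subtype.val h9
      have h10 : y ^ (L.index * orderOf z * Nat.card R) = 1 := by
        have h11 := congrArg Subtype.val h8
        rw [pow_mul, pow_mul]
        exact h11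
      have h12 := orderOf_dvd_of_pow_eq_one h10
      rwa [show L.index * orderOf z * Nat.card R = orderOf z * (Nat.card R * L.index) by ring] at h12

end A

open Matrix Cfsg.Agent.H39.DerPsl Cfsg.Agent.ClassicalGeometry.AutPSL.Root
  Cfsg.Agent.ClassicalGeometry.AutPSL.Auto Cfsg.Agent.H199.PslAut

/-- elements of order `p` normalizing a subgroup of order `v` centralize it if `p ∤ v - 1` -/
theorem commute_of_normalizer {G : Type*} [Group G] [Finite G] {p v : ℕ} [hp : Fact p.Prime] (hv : v.Prime)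
    (hpv : ¬ p ∣ v - 1) {P : Subgroup G} (hP : Nat.card P = v) {w : G} (hw : w ∈ normalizer (P : Set G)) (hwp : w ^ p = 1) :
    ∀ x ∈ P, x * w = w * x := by
  have := Fact.mk hv
  have hc : IsCyclic P := isCyclic_of_prime_card hP
  have hA : Nat.card (MulAut P) = v - 1 := by rw [IsCyclic.card_mulAut, hP, Nat.totient_prime hv]
  set f := P.normalizerMonoidHom with hf
  have h1 : f ⟨w, hw⟩ ^ p = 1 := by
    rw [← map_pow, show (⟨w, hw⟩ : normalizer (P : Set G)) ^ p = 1 from Subtype.ext hwp, map_one]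
  have h2 : orderOf (f ⟨w, hw⟩) ∣ v - 1 := by
    rw [← hA]
    exact orderOf_dvd_natCard _
  have h3 : f ⟨w, hw⟩ = 1 := by
    rcases (Nat.dvd_prime hp.out).1 (orderOf_dvd_of_pow_eq_one h1) with h | h
    · exact orderOf_eq_one_iff.1 h
    · rw [h] at h2
      exact absurd h2 hpv
  have h4 := MonoidHom.mem_ker.2 h3
  rw [hf, Subgroup.normalizerMonoidHom_ker, Subgroup.mem_subgroupOf] at h4
  exact Subgroup.mem_centralizer_iff.1 h4

/-- **Subgroups with irreducible elements of prime order.** -/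
theorem struct_psl {F : Type u} [Field F] [Fintype F] {n p v : ℕ} [hp : Fact p.Prime] [CharP F p] (hn : 1 ≤ n)
    (hv : v.Prime) (hvp : v ≠ p) (he : orderOf ((Fintype.card F : ℕ) : ZMod v) = n)
    (hco : ¬ v ∣ Nat.gcd n (Fintype.card F - 1))
    (hv2 : ¬ v ^ 2 ∣ Nat.card (Matrix.ProjectiveSpecialLinearGroup (Fin n) F)) (hpv : ¬ p ∣ v - 1)
    (M : Subgroup (Matrix.ProjectiveSpecialLinearGroup (Fin n) F)) (hM : v ∣ Nat.card M) :
    ¬ p ∣ Nat.card M ∨ ∃ (K : Type u) (_ : Group K) (_ : Finite K) (a c : ℕ), IsSimpleGroup K ∧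
      (¬ ∀ x y : K, x * y = y * x) ∧ v ∣ Nat.card K ∧ Nat.card M = a * Nat.card K * c ∧ ¬ p ∣ a ∧ ¬ p ∣ c ∧
      (∀ k : ℕ, k.Coprime a → k.Coprime c → Cfsg.Agent.H58.Rec.HasOrd M k → Cfsg.Agent.H58.Rec.HasOrd K k) ∧
      (∀ y : M, ∃ z : K, orderOf y ∣ orderOf z * (a * c)) := by
  have hfin : Finite (Matrix.ProjectiveSpecialLinearGroup (Fin n) F) := finite_psl
  have hvf := Fact.mk hv
  obtain ⟨x, hx⟩ := exists_prime_orderOf_dvd_card' v hM
  obtain ⟨g, hg⟩ := pr_surjective (x : Matrix.ProjectiveSpecialLinearGroup (Fin n) F)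
  set d := Nat.gcd n (Fintype.card F - 1) with hd
  have hgv : (g ^ d) ^ v = 1 := by
    have h1 : g ^ v ∈ Subgroup.center (Matrix.SpecialLinearGroup (Fin n) F) := by
      rw [← pr_eq_one_iff, map_pow, hg, ← Subgroup.coe_pow, ← hx, pow_orderOf_eq_one, Subgroup.coe_one]
    have h2 := smul_pow_gcd hn h1
    rw [← hd] at h2
    rw [← pow_mul, mul_comm, pow_mul, h2]
  have hxd : orderOf (x ^ d) = v := by
    rw [Nat.Coprime.orderOf_pow, hx]
    rw [hx]
    exact (Nat.Prime.coprime_iff_not_dvd hv).2 hco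
  have hprx : pr (g ^ d) = ((x ^ d : M) : Matrix.ProjectiveSpecialLinearGroup (Fin n) F) := by
    rw [map_pow, hg, Subgroup.coe_pow]
  have hgo : orderOf (g ^ d) = v := by
    refine orderOf_eq_prime hgv fun h => ?_
    rw [h, map_one] at hprx
    have h1 : x ^ d = 1 := Subtype.ext hprx.symm
    rw [h1, orderOf_one] at hxd
    exact hv.one_lt.ne hxd
  have hMT : Nat.card M ∣ Nat.card (Matrix.ProjectiveSpecialLinearGroup (Fin n) F) := Subgroup.card_subgroup_dvd_card M
  have hP : Nat.card (zpowers (x ^ d)) = v := by rw [Nat.card_zpowers, hxd]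
  obtain ⟨a, s, c, m, D, h1, h2, h3, h4, h5⟩ := exists_struct2 hP (fun h => hv2 (h.trans hMT))
  have hkill : ∀ S : Subgroup M, IsPGroup p S → (∀ b ∈ zpowers (x ^ d), ∀ y ∈ S, b * y * b⁻¹ ∈ S) → S = ⊥ := by
    intro S hS hinv
    have h6 := no_inv (p := p) hv hvp he hgo (S.map M.subtype) (hS.map _) (by
      rintro _ ⟨y, hy, rfl⟩
      rw [hprx]
      refine ⟨(x ^ d)⁻¹ * y * (x ^ d)⁻¹⁻¹, hinv _ (inv_mem (mem_zpowers _)) y hy, ?_⟩
      rw [inv_inv]
      rfl)
    rwa [Subgroup.map_eq_bot_iff_of_injective _ M.subtype_injective] at h6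
  have hpa : ¬ p ∣ a := by
    intro h
    obtain ⟨S, hS, hS1, hinv⟩ := h4 p hp.out h
    exact hS1 (hkill S hS hinv)
  have hpc : ¬ p ∣ c := by
    intro h
    have h6 : p ∣ Nat.card (normalizer ((zpowers (x ^ d) : Subgroup M) : Set M)) := by
      rw [h3]
      exact (h.mul_right _).mul_right _
    obtain ⟨w, hw⟩ := exists_prime_orderOf_dvd_card' p h6
    have hw1 : orderOf (w : M) = p := by rw [Subgroup.orderOf_coe, hw]
    have hcomm := commute_of_normalizer hv hpv hP w.2 (by rw [← hw1, pow_orderOf_eq_one])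
    have h7 := hkill (zpowers (w : M)) (IsPGroup.of_card (n := 1) (by rw [Nat.card_zpowers, hw1, pow_one])) (by
      intro b hb y hy
      obtain ⟨k, rfl⟩ := mem_zpowers_iff.1 hy
      have h8 : Commute b ((w : M) ^ k) := (show Commute b (w : M) from hcomm b hb).zpow_right k
      rw [h8.eq, mul_inv_cancel_right]
      exact hy)
    rw [zpowers_eq_bot] at h7
    rw [h7, orderOf_one] at hw1
    exact hp.out.one_lt.ne hw1
  rcases h5 with ⟨h5, -⟩ | ⟨K, i1, i2, hK, hna, hKs, hvs, -, -, -, htr, hto⟩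
  · left
    rw [h1, h5]
    intro h
    rcases hp.out.dvd_mul.1 h with h | h
    · rcases hp.out.dvd_mul.1 h with h | h
      · exact hpa h
      · exact hvp ((Nat.prime_dvd_prime_iff_eq hp.out hv).1 h).symm
    · exact hpc h
  · right
    exact ⟨K, i1, i2, a, c, hK, hna, by rw [hKs]; exact hvs, by rw [hKs]; exact h1, hpa, hpc, htr, hto⟩

end Cfsg.Agent.H205.DerPsl
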